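import Groth.Agent.DerComp.K780.GenBy
import Groth.Agent.DerComp.K779.Compl

/-!
# Recognising the derived completion
-/

set_option autoImplicit false

universe v₁ v₂ u₁ u₂ u

open CategoryTheory CategoryTheory.Limits Opposite Pretriangulated

attribute [local instance] HasDerivedCategory.standard

namespace K579.ComplIso

variable {C : Type u} [SmallCategory C] {J : GrothendieckTopology C} {O : Sheaf J CommRingCat.{u}}

/-- A map `q : K ⟶ K'` to a derived complete object with the universal property of the derived completion induces an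
isomorphism from the derived completion of `K`. -/
theorem isIso_homEquiv_symm (I : DerComp.IdealSh O) [DerComp.HasDerCompletion O I]
    {K K' : DerivedCategory (ModSite.Mod O)} (q : K ⟶ K') (hK' : DerComp.IsDerComp O I K')
    (h : ∀ Z, DerComp.IsDerComp O I Z → Function.Bijective (fun φ : K' ⟶ Z => q ≫ φ)) :
    IsIso (((DerComp.derCompletionAdj O I).homEquiv K ⟨K', hK'⟩).symm q) := by
  obtain ⟨e, he⟩ := K780.GenBy.exists_iso_derCompletion I q hK' h
  let φ : (DerComp.derCompletion O I).obj K ⟶ (⟨K', hK'⟩ : DerComp.DComp O I) := ObjectProperty.homMk e.inv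
  let ψ : (⟨K', hK'⟩ : DerComp.DComp O I) ⟶ (DerComp.derCompletion O I).obj K := ObjectProperty.homMk e.hom
  have h1 : ((DerComp.derCompletionAdj O I).homEquiv K ⟨K', hK'⟩).symm q = φ := by
    rw [Equiv.symm_apply_eq, Adjunction.homEquiv_unit]
    change q = DerComp.toDerCompletion I K ≫ e.inv
    rw [← he, Category.assoc, Iso.hom_inv_id, Category.comp_id]
  rw [h1]
  exact ⟨ψ, ObjectProperty.hom_ext _ e.inv_hom_id, ObjectProperty.hom_ext _ e.hom_inv_id⟩

/-- The completion triangle for the chosen derived completion. -/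
theorem exists_triangle_toDerCompletion (I : DerComp.IdealSh O) [DerComp.HasDerCompletion O I]
    (K : DerivedCategory (ModSite.Mod O)) :
    ∃ (T : DerivedCategory (ModSite.Mod O)) (a : T ⟶ K) (c : ((DerComp.derCompletion O I).obj K).obj ⟶ T⟦(1 : ℤ)⟧),
      (Triangle.mk a (DerComp.toDerCompletion I K) c ∈ distTriang _) ∧ K779.Compl.Tors O I T := by
  obtain ⟨T, Y, a, g, k, ht, hY, hT⟩ := K779.Compl.exists_triangle O I K
  obtain ⟨e, he⟩ := K780.GenBy.exists_iso_derCompletion I g hY
    fun Z hZ => K779.Refl.bijective_of_triangle ht (hT Z hZ)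
  refine ⟨T, a, e.inv ≫ k, ?_, hT⟩
  refine isomorphic_distinguished _ ht _ ?_
  refine Triangle.isoMk _ _ (Iso.refl _) (Iso.refl _) e.symm ?_ ?_ ?_
  · exact (Category.comp_id a).trans (Category.id_comp a).symm
  · change DerComp.toDerCompletion I K ≫ e.inv = 𝟙 _ ≫ g
    rw [← he, Category.assoc, Iso.hom_inv_id, Category.comp_id, Category.id_comp]
  · change (e.inv ≫ k) ≫ (shiftFunctor _ (1 : ℤ)).map (𝟙 T) = e.inv ≫ k
    rw [CategoryTheory.Functor.map_id, Category.comp_id]

end K579.ComplIso
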