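import Groth.Agent.DerComp.K579.ElMod
import Groth.Agent.CohDer.K237.ExactAdj

/-!
# Derived completeness of morphisms out of an extension by zero from a category of elements

`cmpl_Θ`: for `Z ∈ D(O)` and a compatible family `h` of sections of `O` on the category of elements of `F`, if
`Hom(j_{U!} O_U, Z[n])` is `h_{(U,x)}`-complete for all `(U, x)` and all `n`, then `Hom(Θ(O_El), Z[n])` is `h`-complete.
-/

set_option autoImplicit false

universe v v' w w' u u₁ u₂

open CategoryTheory CategoryTheory.Limits Opposite Pretriangulated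

attribute [local instance] HasDerivedCategory.standard

namespace K579.ElCompl

open K780.ShiftAlg K780.Tele K780.Away K780.Glob

section Abs

variable {A : Type u₁} [Category.{v} A] [Abelian A] [HasDerivedCategory.{w} A]
  {B : Type u₂} [Category.{v'} B] [Abelian B] [HasDerivedCategory.{w'} B]
  {F : A ⥤ B} {G : B ⥤ A} [F.Additive] [G.Additive] [PreservesFiniteLimits F]
  [PreservesFiniteColimits F] (adj : F ⊣ G)

variable (F) in
theorem additive_mapDerivedCategory : F.mapDerivedCategory.Additive := inferInstance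

include adj in
/-- The functor induced on unbounded derived categories by an exact left adjoint has a right adjoint. -/
theorem isLeftAdjoint_mapDerivedCategory (hB : Groth.Agent.Dcoh.DerHo.HasKInj B) :
    F.mapDerivedCategory.IsLeftAdjoint := by
  have := Groth.Agent.Dcoh.DerHo.hasRightDerivedFunctor hB
    (G.mapHomotopyCategory (ComplexShape.up ℤ) ⋙ DerivedCategory.Qh)
  obtain ⟨dadj, -⟩ := K237.ExactAdj.exists_adj adj hB
    ((G.mapHomotopyCategory (ComplexShape.up ℤ) ⋙ DerivedCategory.Qh).totalRightDerived DerivedCategory.Qh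
      (HomotopyCategory.quasiIso B (ComplexShape.up ℤ)))
    ((G.mapHomotopyCategory (ComplexShape.up ℤ) ⋙ DerivedCategory.Qh).totalRightDerivedUnit DerivedCategory.Qh
      (HomotopyCategory.quasiIso B (ComplexShape.up ℤ)))
  exact dadj.isLeftAdjoint

end Abs

section Pre

variable {T : Type u₁} [Category.{v} T] [Preadditive T]

theorem cmpl_pre_conj {X Y L : T} (e : X ≅ Y) (a : X ⟶ X) (b : Y ⟶ Y) (h : a ≫ e.hom = e.hom ≫ b)
    (hb : Cmpl (pre b L)) : Cmpl (pre a L) := by
  let E : (Y ⟶ L) ≃+ (X ⟶ L) :=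
    { toFun := fun x => e.hom ≫ x
      invFun := fun x => e.inv ≫ x
      left_inv := fun x => by simp
      right_inv := fun x => by simp
      map_add' := fun x y => Preadditive.comp_add _ _ _ _ _ _ }
  refine Cmpl.of_equiv E (fun x => ?_) hb
  change e.hom ≫ b ≫ x = a ≫ e.hom ≫ x
  rw [← Category.assoc, ← h, Category.assoc]

theorem cmpl_pre_post {X L L' : T} (e : L ≅ L') (a : X ⟶ X) (hb : Cmpl (pre a L)) : Cmpl (pre a L') := by
  let E : (X ⟶ L) ≃+ (X ⟶ L') :=
    { toFun := fun x => x ≫ e.hom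
      invFun := fun x => x ≫ e.inv
      left_inv := fun x => by simp
      right_inv := fun x => by simp
      map_add' := fun x y => Preadditive.add_comp _ _ _ _ _ _ }
  refine Cmpl.of_equiv E (fun x => ?_) hb
  change (a ≫ x) ≫ e.hom = a ≫ x ≫ e.hom
  rw [Category.assoc]

variable {T' : Type u₂} [Category.{v'} T'] [Preadditive T'] {L : T ⥤ T'} {R : T' ⥤ T} [L.Additive]

theorem cmpl_pre_adj (adj : L ⊣ R) {X : T} (a : X ⟶ X) (Z : T') :
    Cmpl (pre (L.map a) Z) ↔ Cmpl (pre a (R.obj Z)) := by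
  have : R.Additive := adj.right_adjoint_additive
  let E : (L.obj X ⟶ Z) ≃+ (X ⟶ R.obj Z) := adj.homAddEquiv X Z
  have hE : ∀ x, E (L.map a ≫ x) = a ≫ E x := fun x => adj.homEquiv_naturality_left a x
  constructor
  · exact Cmpl.of_equiv E hE
  · refine Cmpl.of_equiv E.symm fun x => ?_
    apply E.injective
    change E (E.symm (a ≫ x)) = E (L.map a ≫ E.symm x)
    rw [hE, AddEquiv.apply_symm_apply, AddEquiv.apply_symm_apply]

theorem cmpl_pre_adj_shift [HasShift T ℤ] [HasShift T' ℤ] [L.CommShift ℤ] (adj : L ⊣ R) {X : T} (a : X ⟶ X)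
    (Z : T') (n : ℤ) : Cmpl (pre (L.map a) (Z⟦n⟧)) ↔ Cmpl (pre a ((R.obj Z)⟦n⟧)) := by
  let := adj.rightAdjointCommShift ℤ
  rw [cmpl_pre_adj adj]
  exact ⟨cmpl_pre_post ((R.commShiftIso n).app Z) _, cmpl_pre_post ((R.commShiftIso n).app Z).symm _⟩

theorem cmpl_pre_conj_iff {X Y L : T} (e : X ≅ Y) (a : X ⟶ X) (b : Y ⟶ Y) (h : a ≫ e.hom = e.hom ≫ b) :
    Cmpl (pre b L) ↔ Cmpl (pre a L) :=
  ⟨cmpl_pre_conj e a b h, cmpl_pre_conj e.symm b a (by
    rw [Iso.symm_hom, Iso.eq_inv_comp, ← Category.assoc, ← h, Category.assoc, Iso.hom_inv_id, Category.comp_id])⟩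

end Pre

section Yoneda

variable {A : Type u₁} [Category.{v} A] {X Y : A} (e : ∀ Z : A, (X ⟶ Z) ≃ (Y ⟶ Z))
  (he : ∀ {Z Z' : A} (f : X ⟶ Z) (g : Z ⟶ Z'), e Z' (f ≫ g) = e Z f ≫ g)

/-- An isomorphism given by a natural bijection on morphisms out of the objects. -/
def isoOf : X ≅ Y where
  hom := (e Y).symm (𝟙 Y)
  inv := e X (𝟙 X)
  hom_inv_id := by
    apply (e X).injective
    rw [he, Equiv.apply_symm_apply, Category.id_comp]
  inv_hom_id := by
    rw [← he, Category.id_comp, Equiv.apply_symm_apply]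

theorem isoOf_comm {a : X ⟶ X} {b : Y ⟶ Y} (h : ∀ {Z : A} (f : X ⟶ Z), e Z (a ≫ f) = b ≫ e Z f) :
    a ≫ (isoOf e he).hom = (isoOf e he).hom ≫ b := by
  apply (e Y).injective
  rw [h, he]
  change b ≫ e Y ((e Y).symm (𝟙 Y)) = e Y ((e Y).symm (𝟙 Y)) ≫ b
  rw [Equiv.apply_symm_apply, Category.id_comp, Category.comp_id]

end Yoneda

section Site

open K579.ElShriek K579.ElMod K779.Sec

variable {C : Type u} [SmallCategory C] {J : GrothendieckTopology C} (O : Sheaf J CommRingCat.{u})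
  (F : Cᵒᵖ ⥤ Type u)

/-- `Hom(Θ (free on e), M) = M(e) = Hom(free on the base of e, M)`. -/
noncomputable def thetaEquiv (e : El F) (M : ModSite.Mod O) :
    ((Θ O F).obj (ModSite.freeOn (OEl O F) e) ⟶ M) ≃ (ModSite.freeOn O e.base ⟶ M) :=
  ((adjΘ O F).homEquiv _ _).trans
    ((sec (OEl O F) e ((q O F).obj M)).toEquiv.trans (sec O e.base M).toEquiv.symm)

lemma sec_thetaEquiv (e : El F) (M : ModSite.Mod O) (f : (Θ O F).obj (ModSite.freeOn (OEl O F) e) ⟶ M) :
    sec O e.base M (thetaEquiv O F e M f) = sec (OEl O F) e ((q O F).obj M) ((adjΘ O F).homEquiv _ _ f) :=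
  (sec O e.base M).apply_symm_apply _

lemma thetaEquiv_comp (e : El F) {M N : ModSite.Mod O} (f : (Θ O F).obj (ModSite.freeOn (OEl O F) e) ⟶ M)
    (g : M ⟶ N) : thetaEquiv O F e N (f ≫ g) = thetaEquiv O F e M f ≫ g := by
  apply (sec O e.base N).injective
  rw [sec_thetaEquiv, sec_comp, sec_thetaEquiv, Adjunction.homEquiv_naturality_right]
  exact sec_comp (OEl O F) e _ _

lemma thetaEquiv_mul (e : El F) (f : O.obj.obj (op e.base)) {M : ModSite.Mod O}
    (g : (Θ O F).obj (ModSite.freeOn (OEl O F) e) ⟶ M) :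
    thetaEquiv O F e M ((Θ O F).map (mul (OEl O F) e f) ≫ g) = mul O e.base f ≫ thetaEquiv O F e M g := by
  apply (sec O e.base M).injective
  rw [sec_thetaEquiv, sec_mul, sec_thetaEquiv, Adjunction.homEquiv_naturality_left]
  exact sec_mul (OEl O F) e f _

/-- `Θ` sends the free module on `(U, x)` to the free module on `U`. -/
noncomputable def thetaFree (e : El F) : (Θ O F).obj (ModSite.freeOn (OEl O F) e) ≅ ModSite.freeOn O e.base :=
  isoOf (thetaEquiv O F e) (thetaEquiv_comp O F e)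

lemma thetaFree_mul (e : El F) (f : O.obj.obj (op e.base)) :
    (Θ O F).map (mul (OEl O F) e f) ≫ (thetaFree O F e).hom = (thetaFree O F e).hom ≫ mul O e.base f :=
  isoOf_comm _ _ (thetaEquiv_mul O F e f)

/-- `mul` on `D(O)`. -/
noncomputable abbrev mulP (U : C) (f : O.obj.obj (op U)) :
    SiteCmp.inD O (ModSite.freeOn O U) ⟶ SiteCmp.inD O (ModSite.freeOn O U) :=
  (DerivedCategory.singleFunctor (ModSite.Mod O) 0).map (mul O U f)

lemma smul_id_inD (h : DerComp.GSec O) (M : ModSite.Mod O) :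
    h • 𝟙 (SiteCmp.inD O M) = (DerivedCategory.singleFunctor (ModSite.Mod O) 0).map (DerComp.smulEnd h M) := by
  rw [show DerComp.smulEnd h M = h • 𝟙 M by rw [DerComp.smul_def, Category.comp_id], Functor.map_smul,
    CategoryTheory.Functor.map_id]

lemma cmp_iff_cmpl_pre (h : DerComp.GSec O) (M : ModSite.Mod O) (L : DerivedCategory (ModSite.Mod O)) :
    Cmp (SiteCmp.inD O M ⟶ L) h ↔
      Cmpl (pre ((DerivedCategory.singleFunctor (ModSite.Mod O) 0).map (DerComp.smulEnd h M)) L) := by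
  have e : pre ((DerivedCategory.singleFunctor (ModSite.Mod O) 0).map (DerComp.smulEnd h M)) L =
      DistribSMul.toAddMonoidHom (SiteCmp.inD O M ⟶ L) h := by
    ext x
    rw [pre_apply, ← smul_id_inD, Linear.smul_comp, Category.id_comp]
    rfl
  unfold Cmp
  rw [e]

lemma cmp_inD {h : DerComp.GSec O} {K : DerivedCategory (ModSite.Mod O)} (hK : IsCompl h K) (M : ModSite.Mod O)
    (n : ℤ) : Cmp (SiteCmp.inD O M ⟶ K⟦n⟧) h := hK.shift n _

lemma smulEnd_freeOn (h : DerComp.GSec O) (U : C) : DerComp.smulEnd h (ModSite.freeOn O U) = mul O U (h.1 U) := by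
  rw [mul, ofSect_eq, extZero_smulEnd]

/-- Transport of completeness along the adjunction. -/
theorem cmpl_Θ_iff {R : DerivedCategory (ModSite.Mod O) ⥤ DerivedCategory (ModSite.Mod (OEl O F))}
    (adj : (Θ O F).mapDerivedCategory ⊣ R) (h : DerComp.GSec (OEl O F)) (Z : DerivedCategory (ModSite.Mod O))
    (N : ModSite.Mod (OEl O F)) (n : ℤ) :
      Cmpl (pre ((DerivedCategory.singleFunctor (ModSite.Mod O) 0).map ((Θ O F).map (DerComp.smulEnd h N))) (Z⟦n⟧)) ↔
        Cmp (SiteCmp.inD (OEl O F) N ⟶ (R.obj Z)⟦n⟧) h := by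
  have c1 : (Θ O F).mapDerivedCategory.map ((DerivedCategory.singleFunctor (ModSite.Mod (OEl O F)) 0).map
      (DerComp.smulEnd h N)) ≫ (((Θ O F).mapDerivedCategorySingleFunctor 0).app N).hom =
      (((Θ O F).mapDerivedCategorySingleFunctor 0).app N).hom ≫
      (DerivedCategory.singleFunctor (ModSite.Mod O) 0).map ((Θ O F).map (DerComp.smulEnd h N)) :=
    ((Θ O F).mapDerivedCategorySingleFunctor 0).hom.naturality (DerComp.smulEnd h N)
  rw [cmp_iff_cmpl_pre, cmpl_pre_conj_iff _ _ _ c1]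
  have := additive_mapDerivedCategory (Θ O F)
  exact cmpl_pre_adj_shift adj _ Z n

/-- **Completeness of maps out of `Θ(O_El)`.** -/
theorem cmpl_Θ (h : DerComp.GSec (OEl O F)) (Z : DerivedCategory (ModSite.Mod O))
    (hZ : ∀ (e : El F) (n : ℤ), Cmpl (pre (mulP O e.base (h.1 e)) (Z⟦n⟧))) (n : ℤ) (M : ModSite.Mod (OEl O F)) :
    Cmpl (pre ((DerivedCategory.singleFunctor (ModSite.Mod O) 0).map ((Θ O F).map (DerComp.smulEnd h M))) (Z⟦n⟧)) := by
  have hL : (Θ O F).mapDerivedCategory.IsLeftAdjoint :=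
    isLeftAdjoint_mapDerivedCategory (adjΘ O F) (K578.Der.hasKInj O)
  obtain ⟨R, ⟨adj⟩⟩ := hL
  have hK : IsCompl h (R.obj Z) := by
    refine isCompl_of_covering h (fun _ => True) K779.Gen.covering_true (R.obj Z) fun e _ n => ?_
    rw [← cmpl_Θ_iff O F adj, smulEnd_freeOn]
    refine cmpl_pre_conj ((DerivedCategory.singleFunctor (ModSite.Mod O) 0).mapIso (thetaFree O F e)) _ _ ?_ (hZ e n)
    rw [Functor.mapIso_hom, mulP, ← Functor.map_comp, ← Functor.map_comp, thetaFree_mul]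
  rw [cmpl_Θ_iff O F adj]
  exact cmp_inD (OEl O F) hK M n

end Site

end K579.ElCompl
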