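import Groth.Agent.DerComp.K579.ElShriek
import Groth.Agent.DerComp.K780.Glob

/-!
# Modules on the category of elements of a presheaf of sets, with the trivial topology

For a ringed site `(C, J, O)` and a presheaf of sets `F` on `C`: `OEl O F` is the restriction of `O` to the category of elements
of `F` with the trivial topology, `q : Mod O ⥤ Mod (OEl O F)` the restriction and `Θ : Mod (OEl O F) ⥤ Mod O` its left
adjoint, which is exact.
-/

set_option autoImplicit false

universe u

open CategoryTheory CategoryTheory.Limits Opposite

namespace K579.ElMod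

open K579.ElShriek

variable {C : Type u} [SmallCategory C] {J : GrothendieckTopology C} (O : Sheaf J CommRingCat.{u})
  (F : Cᵒᵖ ⥤ Type u)

/-- The structure sheaf restricted to the category of elements, with the trivial topology. -/
def OEl : Sheaf (⊥ : GrothendieckTopology (El F)) CommRingCat.{u} :=
  ⟨(El.π F).op ⋙ O.obj, Presheaf.isSheaf_bot _⟩

instance isContinuous_π : (El.π F).IsContinuous (⊥ : GrothendieckTopology (El F)) J where
  op_comp_isSheaf_of_types _ := (isSheaf_iff_isSheaf_of_type _ _).1 (Presheaf.isSheaf_bot _)

/-- The structure map. -/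
def φEl : ModSite.ringSh (OEl O F) ⟶
    ((El.π F).sheafPushforwardContinuous RingCat.{u} (⊥ : GrothendieckTopology (El F)) J).obj (ModSite.ringSh O) :=
  ⟨𝟙 _⟩

/-- Restriction of modules to the category of elements. -/
noncomputable abbrev q : ModSite.Mod O ⥤ ModSite.Mod (OEl O F) :=
  SheafOfModules.pushforward.{u} (F := El.π F) (φEl O F)

/-- The left adjoint of the restriction: extension by zero followed by sheafification. -/
noncomputable abbrev Θ : ModSite.Mod (OEl O F) ⥤ ModSite.Mod O :=
  SheafOfModules.forget (ModSite.ringSh (OEl O F)) ⋙ shriek (ModSite.ringSh O).obj F ⋙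
    PresheafOfModules.sheafification (𝟙 (ModSite.ringSh O).obj)

/-- The adjunction. -/
noncomputable def adjΘ : Θ O F ⊣ q O F :=
  (SheafOfModules.PullbackConstruction.adjunction.{u} (F := El.π F) (φEl O F)).ofNatIsoLeft
    (Functor.isoWhiskerLeft _ (Functor.isoWhiskerRight (Adjunction.leftAdjointUniq
      (PresheafOfModules.pullbackPushforwardAdjunction.{u} (F := El.π F) (φEl O F).hom)
      (adj (ModSite.ringSh O).obj F)) _))

instance : (Θ O F).PreservesMonomorphisms where
  preserves {M N} f _ := by
    have h₀ : PreservesFiniteLimits (SheafOfModules.forget.{u} (ModSite.ringSh (OEl O F))) := inferInstance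
    have h₀' : (SheafOfModules.forget.{u} (ModSite.ringSh (OEl O F))).PreservesMonomorphisms := inferInstance
    have h₁ : Mono ((SheafOfModules.forget.{u} (ModSite.ringSh (OEl O F))).map f) := h₀'.preserves f
    have h₂ : Mono ((shriek (ModSite.ringSh O).obj F).map
        ((SheafOfModules.forget (ModSite.ringSh (OEl O F))).map f)) := by
      apply PresheafOfModules.mono_of_injective
      intro U
      exact shMapApp_injective _ (fun Y =>
        @PresheafOfModules.injective_of_mono _ _ _ _ _
          ((SheafOfModules.forget.{u} (ModSite.ringSh (OEl O F))).map f) h₁ Y) U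
    exact inferInstanceAs (Mono ((PresheafOfModules.sheafification (𝟙 (ModSite.ringSh O).obj)).map
      ((shriek (ModSite.ringSh O).obj F).map ((SheafOfModules.forget (ModSite.ringSh (OEl O F))).map f))))

instance : (q O F).Additive where
  map_add := rfl

instance : (Θ O F).Additive := (adjΘ O F).left_adjoint_additive

instance preservesColimits_Θ : PreservesColimitsOfSize.{u, u} (Θ O F) :=
  (adjΘ O F).leftAdjoint_preservesColimits

instance preservesFiniteColimits_Θ : PreservesFiniteColimits (Θ O F) :=
  PreservesColimitsOfSize.preservesFiniteColimits.{u, u} _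

instance preservesFiniteLimits_Θ : PreservesFiniteLimits (Θ O F) := by
  rw [Functor.preservesFiniteLimits_iff_forall_exact_map_and_mono]
  intro S hS
  have := hS.mono_f
  exact ⟨((Functor.preservesFiniteColimits_iff_forall_exact_map_and_epi (Θ O F)).1 inferInstance S hS).1,
    inferInstance⟩

/-- Sections of the restriction. -/
lemma q_sect (M : ModSite.Mod O) (e : El F) : ((q O F).obj M).val.obj (op e) = M.val.obj (op e.base) := rfl

end K579.ElMod
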