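import Groth.Agent.DerComp.K579.ElShNat

/-!
# Restriction of an extension by zero

For objects `V`, `W` of a ringed site `(C, O)` let `FVW V W` be the presheaf `(V' → V) ↦ Hom(V', W)` on `C/V` and
`ρ : El (FVW V W) ⥤ C/W`.  Then `(j_{W!} M)|_V ≅ Θ (ρ^* M)` naturally in `M`.
-/

set_option autoImplicit false

universe v u u' v'

open CategoryTheory CategoryTheory.Limits Opposite

namespace K579.ElRestr

open K579.ElShriek K579.ElMod K579.ShfRestr K579.ElShNat

variable {C : Type u} [SmallCategory C] {J : GrothendieckTopology C} (O : Sheaf J CommRingCat.{u}) (V W : C)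

instance isContinuous_ρ : (ρ V W).IsContinuous (⊥ : GrothendieckTopology (El (FVW V W))) (J.over W) where
  op_comp_isSheaf_of_types _ := (isSheaf_iff_isSheaf_of_type _ _).1 (Presheaf.isSheaf_bot _)

/-- The structure map. -/
def φρ : ModSite.ringSh (OEl (O.over V) (FVW V W)) ⟶
    ((ρ V W).sheafPushforwardContinuous RingCat.{u} (⊥ : GrothendieckTopology (El (FVW V W))) (J.over W)).obj
      (ModSite.ringSh (O.over W)) :=
  ⟨𝟙 _⟩

/-- Restriction of modules along `ρ`. -/
noncomputable abbrev ρM : ModSite.Mod (O.over W) ⥤ ModSite.Mod (OEl (O.over V) (FVW V W)) :=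
  SheafOfModules.pushforward.{u} (F := ρ V W) (φρ O V W)

/-- Sheafification of modules on `C/V`. -/
noncomputable abbrev shfV : PresheafOfModules.{u} (ModSite.ringSh (O.over V)).obj ⥤ ModSite.Mod (O.over V) :=
  PresheafOfModules.sheafification.{u} (𝟙 (ModSite.ringSh (O.over V)).obj)

/-- The comparison of the restriction of sheafifications. -/
noncomputable def cmpIso' : (PresheafOfModules.sheafification.{u} (𝟙 (ModSite.ringSh O).obj)) ⋙ ModSite.restr O V ≅
    resQ V (ModSite.ringSh O).obj ⋙ shfV O V := (cmpIso (ModSite.ringSh O) V).symm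

/-- `(j_{W!} M)|_V ≅ Θ (ρ^* M)`. -/
noncomputable def restrExt : ModSite.extZero O W ⋙ ModSite.restr O V ≅ ρM O V W ⋙ Θ (O.over V) (FVW V W) :=
  Functor.isoWhiskerRight (Groth.Agent.S3087.isoModel (ModSite.extZeroAdj O W)) (ModSite.restr O V) ≪≫
  Functor.isoWhiskerLeft (SheafOfModules.forget (ModSite.ringSh (O.over W)) ⋙
    Groth.Agent.Sga4A.ModShriek.shriek (ModSite.ringSh O).obj W) (cmpIso' O V) ≪≫
  Functor.isoWhiskerLeft (SheafOfModules.forget (ModSite.ringSh (O.over W)))
    (Functor.isoWhiskerRight (shNat V W (ModSite.ringSh O).obj) (shfV O V))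

end K579.ElRestr
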