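import Groth.Prelude.Def_ModSite
import Mathlib.CategoryTheory.Sites.PreservesLocallyBijective

/-!
# Sheafification of presheaves of modules commutes with restriction to a localised site

`cmpIso : resP R V ⋙ sheafification ≅ sheafification ⋙ SheafOfModules.overFunctor R V`.
-/

set_option autoImplicit false

universe v u u' v'

open CategoryTheory CategoryTheory.Limits Opposite

namespace K579.ShfRestr

section General

variable {C : Type u'} [Category.{v'} C] {J : GrothendieckTopology C} {R : Sheaf J RingCat.{u}}

lemma isIso_homEquiv_symm [HasWeakSheafify J AddCommGrpCat.{v}]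
    (P : Cᵒᵖ ⥤ AddCommGrpCat.{v}) (F : Sheaf J AddCommGrpCat.{v})
    (φ : P ⟶ F.obj) (h : J.W φ) :
    IsIso (((sheafificationAdjunction J AddCommGrpCat).homEquiv P F).symm φ) := by
  rw [Adjunction.homEquiv_counit]
  have h2 : IsIso ((presheafToSheaf J AddCommGrpCat).map φ) := (J.W_iff _).1 h
  infer_instance

variable [J.WEqualsLocallyBijective AddCommGrpCat.{v}] [HasWeakSheafify J AddCommGrpCat.{v}]

lemma isIso_sheafificationHomEquiv_symm {P : PresheafOfModules.{v} R.obj} {F : SheafOfModules.{v} R}
    (φ : P ⟶ (PresheafOfModules.restrictScalars (𝟙 R.obj)).obj ((SheafOfModules.forget _).obj F))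
    (h : J.W ((PresheafOfModules.toPresheaf _).map φ)) :
    IsIso ((PresheafOfModules.sheafificationHomEquiv (𝟙 R.obj)).symm φ) := by
  have h1 : IsIso ((SheafOfModules.toSheaf R).map
      ((PresheafOfModules.sheafificationHomEquiv (𝟙 R.obj)).symm φ)) := by
    rw [PresheafOfModules.toSheaf_map_sheafificationHomEquiv_symm]
    exact isIso_homEquiv_symm P.presheaf ((SheafOfModules.toSheaf R).obj F) _ h
  exact isIso_of_reflects_iso _ (SheafOfModules.toSheaf.{v} R)

end General

variable {C : Type u} [SmallCategory C] {J : GrothendieckTopology C} (R : Sheaf J RingCat.{u}) (V : C)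

/-- Restriction of presheaves of modules. -/
noncomputable abbrev resP : PresheafOfModules.{u} R.obj ⥤ PresheafOfModules.{u} (R.over V).obj :=
  PresheafOfModules.pushforward (F := Over.forget V) (𝟙 (R.over V).obj)

lemma sheafificationHomEquiv_symm_eq {P : PresheafOfModules.{u} R.obj} {F : SheafOfModules.{u} R}
    (f : P ⟶ (PresheafOfModules.restrictScalars (𝟙 R.obj)).obj ((SheafOfModules.forget _).obj F)) :
    (PresheafOfModules.sheafificationHomEquiv (𝟙 R.obj)).symm f =
      ((PresheafOfModules.sheafificationAdjunction.{u} (𝟙 R.obj)).homEquiv P F).symm f := by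
  apply ((PresheafOfModules.sheafificationAdjunction.{u} (𝟙 R.obj)).homEquiv P F).injective
  rw [PresheafOfModules.sheafificationAdjunction_homEquiv_apply, Equiv.apply_symm_apply]
  exact (((PresheafOfModules.sheafificationAdjunction.{u} (𝟙 R.obj)).homEquiv P F).apply_symm_apply f).symm

/-- The comparison. -/
noncomputable def cmpApp (P : PresheafOfModules.{u} R.obj) :
    (PresheafOfModules.sheafification.{u} (𝟙 (R.over V).obj)).obj ((resP R V).obj P) ⟶
      (SheafOfModules.overFunctor R V).obj ((PresheafOfModules.sheafification.{u} (𝟙 R.obj)).obj P) :=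
  ((PresheafOfModules.sheafificationAdjunction.{u} (𝟙 (R.over V).obj)).homEquiv ((resP R V).obj P)
    ((SheafOfModules.overFunctor R V).obj ((PresheafOfModules.sheafification.{u} (𝟙 R.obj)).obj P))).symm
    ((resP R V).map ((PresheafOfModules.sheafificationAdjunction.{u} (𝟙 R.obj)).unit.app P))

instance isIso_cmpApp (P : PresheafOfModules.{u} R.obj) : IsIso (cmpApp R V P) := by
  rw [cmpApp, ← sheafificationHomEquiv_symm_eq]
  apply isIso_sheafificationHomEquiv_symm
  have h : J.W (toSheafify J P.presheaf) := J.W_toSheafify _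
  rw [GrothendieckTopology.W_iff_isLocallyBijective] at h
  obtain ⟨h1, h2⟩ := h
  have h3 := Presheaf.isLocallyInjective_whisker (J.over V) J (Over.forget V) (toSheafify J P.presheaf)
  have h4 := Presheaf.isLocallySurjective_whisker (J.over V) J (Over.forget V) (toSheafify J P.presheaf)
  exact ((J.over V).W_iff_isLocallyBijective _).2 ⟨h3, h4⟩

lemma cmpApp_naturality {P Q : PresheafOfModules.{u} R.obj} (f : P ⟶ Q) :
    (PresheafOfModules.sheafification.{u} (𝟙 (R.over V).obj)).map ((resP R V).map f) ≫ cmpApp R V Q =
      cmpApp R V P ≫ (SheafOfModules.overFunctor R V).map ((PresheafOfModules.sheafification.{u} (𝟙 R.obj)).map f) := by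
  have hn := (PresheafOfModules.sheafificationAdjunction.{u} (𝟙 R.obj)).unit.naturality f
  rw [cmpApp, cmpApp, ← Adjunction.homEquiv_naturality_left_symm, ← Adjunction.homEquiv_naturality_right_symm]
  congr 1
  exact ((resP R V).map_comp _ _).symm.trans ((congrArg (resP R V).map hn).trans ((resP R V).map_comp _ _))

/-- Sheafification commutes with restriction to a localised site. -/
noncomputable def cmpIso : resP R V ⋙ PresheafOfModules.sheafification.{u} (𝟙 (R.over V).obj) ≅
    PresheafOfModules.sheafification.{u} (𝟙 R.obj) ⋙ SheafOfModules.overFunctor R V :=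
  NatIso.ofComponents (fun P => asIso (cmpApp R V P)) (fun f => cmpApp_naturality R V f)

end K579.ShfRestr
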