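import Groth.Agent.DerComp.K579.ElCompl
import Groth.Agent.DerComp.K579.ShfRestr

/-!
# Restriction of an extension by zero

For objects `V`, `W` of a ringed site `(C, O)` let `FVW V W` be the presheaf `(V' → V) ↦ Hom(V', W)` on `C/V` and
`ρ : El (FVW V W) ⥤ C/W`.  Then `(j_{W!} M)|_V ≅ Θ (ρ^* M)` naturally in `M`.
-/

set_option autoImplicit false

universe v u u' v'

open CategoryTheory CategoryTheory.Limits Opposite

namespace K579.ElShNat

open K579.ElShriek K579.ElMod K579.ShfRestr

variable {C : Type u} [SmallCategory C] (V W : C)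

/-- The presheaf on `C/V` represented by `W`. -/
abbrev FVW : (Over V)ᵒᵖ ⥤ Type u := (Over.forget V).op ⋙ yoneda.obj W

/-- Spans over `V` and `W`, as objects over `W`. -/
def ρ : El (FVW V W) ⥤ Over W where
  obj e := Over.mk (show e.base.left ⟶ W from e.elt)
  map g := Over.homMk g.1.left g.2

section Presheaf

variable (R : Cᵒᵖ ⥤ RingCat.{u})

/-- Restriction of a presheaf of rings. -/
abbrev RV : (Over V)ᵒᵖ ⥤ RingCat.{u} := (Over.forget V).op ⋙ R

/-- Restriction along `ρ`. -/
noncomputable abbrev ρP : PresheafOfModules.{u} (Groth.Agent.Sga4A.ModShriek.rover R W) ⥤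
    PresheafOfModules.{u} (rover (RV V R) (FVW V W)) :=
  PresheafOfModules.pushforward (F := ρ V W) (𝟙 (rover (RV V R) (FVW V W)))

/-- Restriction to `C/V`. -/
noncomputable abbrev resQ : PresheafOfModules.{u} R ⥤ PresheafOfModules.{u} (RV V R) :=
  PresheafOfModules.pushforward (F := Over.forget V) (𝟙 (RV V R))

/-- The extension by zero of presheaves restricted to `C/V`. -/
noncomputable def shIso (M : PresheafOfModules.{u} (Groth.Agent.Sga4A.ModShriek.rover R W)) :
    (resQ V R).obj (Groth.Agent.Sga4A.ModShriek.sh M) ≅ sh ((ρP V W R).obj M) := Iso.refl _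

lemma shIso_naturality {M N : PresheafOfModules.{u} (Groth.Agent.Sga4A.ModShriek.rover R W)} (φ : M ⟶ N) :
    (resQ V R).map (Groth.Agent.Sga4A.ModShriek.shMap φ) ≫ (shIso V W R N).hom =
      (shIso V W R M).hom ≫ shMap ((ρP V W R).map φ) := by
  apply sh_hom_ext (M := (ρP V W R).obj M)
  intro U f m
  have h1 := Groth.Agent.Sga4A.ModShriek.shMapApp_of φ (op U.unop.left) f m
  have h2 := shMapApp_of ((ρP V W R).map φ) U f m
  exact h1.trans h2.symm

/-- The extension by zero of presheaves restricted to `C/V`, naturally. -/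
noncomputable def shNat : Groth.Agent.Sga4A.ModShriek.shriek R W ⋙ resQ V R ≅
    ρP V W R ⋙ shriek (RV V R) (FVW V W) :=
  NatIso.ofComponents (fun M => shIso V W R M) (fun φ => shIso_naturality V W R φ)

end Presheaf

end K579.ElShNat
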