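import Mathlib.Algebra.Category.ModuleCat.Presheaf.Pushforward
import Mathlib.Algebra.DirectSum.Module
import Mathlib.CategoryTheory.Yoneda

/-!
# Extension by zero of presheaves of modules along the category of elements of a presheaf of sets

For `R : Cᵒᵖ ⥤ RingCat` and `F : Cᵒᵖ ⥤ Type`, `El F` is the category of elements of `F` and
`shriek R F : PresheafOfModules (R|F) ⥤ PresheafOfModules R`, `(shriek M)(U) = ⨁ (x : F(U)), M(U, x)`, is the left adjoint
of the restriction.  (Port of `Groth.Agent.Sga4A.ModShriek`, which is the representable case.)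
-/

set_option autoImplicit false

universe u

open CategoryTheory Opposite DirectSum

namespace K579.ElShriek

variable {C : Type u} [SmallCategory C]

/-- The category of elements of a presheaf of sets (with arrows in the direction of `C`). -/
structure El (F : Cᵒᵖ ⥤ Type u) where
  /-- the object -/
  base : C
  /-- the section -/
  elt : F.obj (op base)

namespace El

variable {F : Cᵒᵖ ⥤ Type u}

instance : SmallCategory (El F) where
  Hom X Y := {g : X.base ⟶ Y.base // F.map g.op Y.elt = X.elt}
  id X := ⟨𝟙 _, by simp⟩
  comp {X Y Z} f g := ⟨f.1 ≫ g.1, by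
    rw [op_comp, F.map_comp]
    change F.map f.1.op (F.map g.1.op Z.elt) = X.elt
    rw [g.2, f.2]⟩

@[ext] lemma hom_ext {X Y : El F} {f g : X ⟶ Y} (h : f.1 = g.1) : f = g := Subtype.ext h

@[simp] lemma id_val (X : El F) : (𝟙 X : X ⟶ X).1 = 𝟙 X.base := rfl

@[simp] lemma comp_val {X Y Z : El F} (f : X ⟶ Y) (g : Y ⟶ Z) : (f ≫ g).1 = f.1 ≫ g.1 := rfl

variable (F) in
/-- The projection. -/
@[simps] def π : El F ⥤ C where
  obj X := X.base
  map f := f.1

/-- The arrow of the category of elements given by a restriction. -/
def lift {U V : Cᵒᵖ} (g : U ⟶ V) (x : F.obj U) :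
    (⟨V.unop, F.map g x⟩ : El F) ⟶ (⟨U.unop, x⟩ : El F) := ⟨g.unop, rfl⟩

@[simp] lemma lift_val {U V : Cᵒᵖ} (g : U ⟶ V) (x : F.obj U) : (lift g x).1 = g.unop := rfl

end El

variable (R : Cᵒᵖ ⥤ RingCat.{u}) (F : Cᵒᵖ ⥤ Type u)
/-- Restriction of a presheaf of rings to the category of elements. -/
abbrev rover : (El F)ᵒᵖ ⥤ RingCat.{u} := (El.π F).op ⋙ R

variable {R F}

/-- The value of `M` on `(U, f)`. -/
abbrev fib (M : PresheafOfModules.{u} (rover R F)) (U : Cᵒᵖ) (f : F.obj U) : Type u :=
  M.obj (op (⟨U.unop, f⟩ : El F))

noncomputable instance (M : PresheafOfModules.{u} (rover R F)) (U : Cᵒᵖ) (f : F.obj U) :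
    Module (R.obj U) (fib M U f) :=
  inferInstanceAs (Module ((rover R F).obj (op (⟨U.unop, f⟩ : El F))) (M.obj (op (⟨U.unop, f⟩ : El F))))

/-- Sections of the extension by zero. -/
abbrev shObj (M : PresheafOfModules.{u} (rover R F)) (U : Cᵒᵖ) : Type u :=
  ⨁ f : F.obj U, fib M U f

open Classical in
/-- The element of the extension by zero given by an element of a fibre. -/
noncomputable def of (M : PresheafOfModules.{u} (rover R F)) (U : Cᵒᵖ) (f : F.obj U) :
    fib M U f →ₗ[R.obj U] shObj M U :=
  DirectSum.lof (R.obj U) (F.obj U) (fib M U) f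

lemma of_smul (M : PresheafOfModules.{u} (rover R F)) (U : Cᵒᵖ) (f : F.obj U) (r : R.obj U) (m : fib M U f) :
    of M U f (r • m) = r • of M U f m := (of M U f).map_smul r m

lemma of_injective (M : PresheafOfModules.{u} (rover R F)) (U : Cᵒᵖ) (f : F.obj U) :
    Function.Injective (of M U f) := by
  classical
  exact DirectSum.of_injective (β := fib M U) f

lemma of_apply_same (M : PresheafOfModules.{u} (rover R F)) (U : Cᵒᵖ) (f : F.obj U)
    (m : fib M U f) : (of M U f m) f = m := by
  classical
  exact DirectSum.of_eq_same (β := fib M U) f m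

lemma of_apply_ne (M : PresheafOfModules.{u} (rover R F)) (U : Cᵒᵖ) {f g : F.obj U}
    (h : g ≠ f) (m : fib M U g) : (of M U g m) f = 0 := by
  classical
  exact DirectSum.of_eq_of_ne (β := fib M U) _ _ _ (Ne.symm h)

lemma addHom_ext' {M : PresheafOfModules.{u} (rover R F)} {U : Cᵒᵖ} {T : Type*} [AddMonoid T]
    {a b : shObj M U →+ T} (h : ∀ (f : F.obj U) (m : fib M U f), a (of M U f m) = b (of M U f m)) :
    a = b := by
  classical
  exact DirectSum.addHom_ext h

lemma of_eq (M : PresheafOfModules.{u} (rover R F)) {U : Cᵒᵖ} {f f' : F.obj U}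
    (e : (⟨U.unop, f'⟩ : El F) ⟶ (⟨U.unop, f⟩ : El F)) (he : e.1 = 𝟙 _) (m : fib M U f) :
    of M U f' (M.map e.op m) = of M U f m := by
  obtain rfl : f' = f := by
    have := e.2
    rw [he] at this
    simpa using this.symm
  obtain rfl : e = 𝟙 _ := El.hom_ext he
  congr 1
  erw [M.map_id]
  rfl

/-- Restriction along `g` on a fibre. -/
noncomputable def resFib (M : PresheafOfModules.{u} (rover R F)) {U V : Cᵒᵖ} (g : U ⟶ V)
    (f : F.obj U) : fib M U f →+ fib M V (F.map g f) :=
  AddMonoidHom.mk' (fun m => M.map (El.lift g f).op m)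
    (fun a b => map_add (M.map _).hom a b)

lemma resFib_apply (M : PresheafOfModules.{u} (rover R F)) {U V : Cᵒᵖ} (g : U ⟶ V)
    (f : F.obj U) (m : fib M U f) : resFib M g f m =
      M.map (El.lift g f).op m := rfl

lemma resFib_smul (M : PresheafOfModules.{u} (rover R F)) {U V : Cᵒᵖ} (g : U ⟶ V)
    (f : F.obj U) (r : R.obj U) (m : fib M U f) :
    resFib M g f (r • m) = (R.map g).hom r • resFib M g f m :=
  M.map_smul (El.lift g f).op r m

open Classical in
/-- Restriction maps of the extension by zero. -/
noncomputable def res (M : PresheafOfModules.{u} (rover R F)) {U V : Cᵒᵖ} (g : U ⟶ V) :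
    shObj M U →+ shObj M V :=
  DirectSum.toAddMonoid fun f => (of M V (F.map g f)).toAddMonoidHom.comp (resFib M g f)

@[simp]
lemma res_of (M : PresheafOfModules.{u} (rover R F)) {U V : Cᵒᵖ} (g : U ⟶ V)
    (f : F.obj U) (m : fib M U f) :
    res M g (of M U f m) = of M V (F.map g f) (resFib M g f m) := by
  classical
  exact DirectSum.toAddMonoid_of _ _ _

lemma res_smul (M : PresheafOfModules.{u} (rover R F)) {U V : Cᵒᵖ} (g : U ⟶ V)
    (r : R.obj U) (m : shObj M U) : res M g (r • m) = (R.map g).hom r • res M g m := by
  classical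
  induction m using DirectSum.induction_on with
  | zero => simp
  | of f m =>
    change res M g (r • of M U f m) = (R.map g).hom r • res M g (of M U f m)
    rw [← map_smul, res_of, res_of, ← map_smul, resFib_smul]
  | add a b ha hb => rw [smul_add, map_add, map_add, smul_add, ha, hb]

/-- The underlying abelian presheaf of the extension by zero. -/
noncomputable def shAb (M : PresheafOfModules.{u} (rover R F)) : Cᵒᵖ ⥤ Ab.{u} where
  obj U := AddCommGrpCat.of (shObj M U)
  map g := AddCommGrpCat.ofHom (res M g)
  map_id U := by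
    ext1
    apply addHom_ext'
    intro f m
    change res M (𝟙 U) (of M U f m) = of M U f m
    rw [res_of]
    exact of_eq M (f' := F.map (𝟙 U) f) (f := f) (El.lift (𝟙 U) f) rfl m
  map_comp {U V W} g h := by
    ext1
    apply addHom_ext'
    intro f m
    change res M (g ≫ h) (of M U f m) = res M h (res M g (of M U f m))
    rw [res_of, res_of, res_of]
    have key := of_eq M (U := W) (f' := F.map h (F.map g f)) (f := F.map (g ≫ h) f)
      ⟨𝟙 _, by simp⟩ rfl (resFib M (g ≫ h) f m)
    rw [← key]
    congr 1
    rw [resFib_apply, resFib_apply, resFib_apply, ← PresheafOfModules.map_comp_apply,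
      ← PresheafOfModules.map_comp_apply]
    apply PresheafOfModules.congr_map_apply
    apply Quiver.Hom.unop_inj
    apply El.hom_ext
    simp

noncomputable instance (M : PresheafOfModules.{u} (rover R F)) (U : Cᵒᵖ) :
    Module (R.obj U) ((shAb M).obj U) := inferInstanceAs (Module (R.obj U) (shObj M U))

/-- The extension by zero of a presheaf of modules. -/
noncomputable def sh (M : PresheafOfModules.{u} (rover R F)) : PresheafOfModules.{u} R :=
  PresheafOfModules.ofPresheaf (shAb M) (fun _ _ g r m => res_smul M g r m)

open Classical in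
/-- Functoriality of the extension by zero, on sections. -/
noncomputable def shMapApp {M N : PresheafOfModules.{u} (rover R F)} (φ : M ⟶ N) (U : Cᵒᵖ) :
    shObj M U →ₗ[R.obj U] shObj N U :=
  DirectSum.toModule (R.obj U) _ _ fun f => (of N U f).comp (φ.app (op (⟨U.unop, f⟩ : El F))).hom

@[simp]
lemma shMapApp_of {M N : PresheafOfModules.{u} (rover R F)} (φ : M ⟶ N) (U : Cᵒᵖ)
    (f : F.obj U) (m : fib M U f) :
    shMapApp φ U (of M U f m) = of N U f ((φ.app (op (⟨U.unop, f⟩ : El F))).hom m) := by
  classical
  exact DirectSum.toModule_lof _ _ _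

/-- Functoriality of the extension by zero. -/
noncomputable def shMap {M N : PresheafOfModules.{u} (rover R F)} (φ : M ⟶ N) : sh M ⟶ sh N :=
  PresheafOfModules.homMk (M₁ := sh M) (M₂ := sh N)
    { app := fun U => AddCommGrpCat.ofHom (shMapApp φ U).toAddMonoidHom
      naturality := fun U V g => by
        ext1
        apply addHom_ext'
        intro f m
        change shMapApp φ V (res M g (of M U f m)) = res N g (shMapApp φ U (of M U f m))
        rw [res_of, shMapApp_of, shMapApp_of, res_of]
        congr 1
        exact PresheafOfModules.naturality_apply φ _ m }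
    (fun U r m => (shMapApp φ U).map_smul r m)

lemma shMap_app_apply {M N : PresheafOfModules.{u} (rover R F)} (φ : M ⟶ N) (U : Cᵒᵖ)
    (m : shObj M U) : ((shMap φ).app U).hom m = shMapApp φ U m := rfl

lemma sh_hom_ext {M : PresheafOfModules.{u} (rover R F)} {N : PresheafOfModules.{u} R}
    {a b : sh M ⟶ N} (h : ∀ (U : Cᵒᵖ) (f : F.obj U) (m : fib M U f),
      (a.app U).hom (of M U f m) = (b.app U).hom (of M U f m)) : a = b := by
  ext U : 2
  apply LinearMap.toAddMonoidHom_injective
  apply addHom_ext'
  intro f m
  exact h U f m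

variable (R F) in
/-- The extension by zero functor. -/
noncomputable def shriek : PresheafOfModules.{u} (rover R F) ⥤ PresheafOfModules.{u} R where
  obj M := sh M
  map φ := shMap φ
  map_id M := by
    apply sh_hom_ext
    intro U f m
    exact shMapApp_of (𝟙 M) U f m
  map_comp {M N P} φ ψ := by
    apply sh_hom_ext
    intro U f m
    change shMapApp (φ ≫ ψ) U (of M U f m) = shMapApp ψ U (shMapApp φ U (of M U f m))
    rw [shMapApp_of, shMapApp_of, shMapApp_of]
    rfl

variable (R F) in
/-- Restriction to the category of elements. -/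
noncomputable abbrev restr : PresheafOfModules.{u} R ⥤ PresheafOfModules.{u} (rover R F) :=
  PresheafOfModules.pushforward (F := El.π F) (𝟙 (rover R F))

/-- From maps out of the extension by zero to maps into the restriction. -/
noncomputable def toRestr {M : PresheafOfModules.{u} (rover R F)} {N : PresheafOfModules.{u} R}
    (φ : sh M ⟶ N) : M ⟶ (restr R F).obj N :=
  PresheafOfModules.homMk
    { app := fun Y => AddCommGrpCat.ofHom ((φ.app (op Y.unop.base)).hom.toAddMonoidHom.comp
        (of M (op Y.unop.base) Y.unop.elt).toAddMonoidHom)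
      naturality := by
        intro Y Z g
        ext m
        change M.obj Y at m
        change (φ.app (op Z.unop.base)).hom (of M (op Z.unop.base) Z.unop.elt (M.map g m)) =
          N.map g.unop.1.op ((φ.app (op Y.unop.base)).hom (of M (op Y.unop.base) Y.unop.elt m))
        have h := PresheafOfModules.naturality_apply φ g.unop.1.op
          (of M (op Y.unop.base) Y.unop.elt m)
        refine Eq.trans ?_ h
        congr 1
        change _ = res M g.unop.1.op (of M (op Y.unop.base) Y.unop.elt m)
        rw [res_of]
        have hw : F.map g.unop.1.op Y.unop.elt = Z.unop.elt := g.unop.2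
        have key := of_eq M (U := op Z.unop.base) (f' := Z.unop.elt) (f := F.map g.unop.1.op Y.unop.elt)
          ⟨𝟙 _, by simp [hw]⟩ rfl (resFib M g.unop.1.op Y.unop.elt m)
        refine Eq.trans ?_ key
        congr 1
        rw [resFib_apply, ← PresheafOfModules.map_comp_apply]
        apply PresheafOfModules.congr_map_apply
        apply Quiver.Hom.unop_inj
        apply El.hom_ext
        simp }
    (fun Y r m => by
      change (φ.app (op Y.unop.base)).hom (of M (op Y.unop.base) Y.unop.elt (r • m)) =
        (show R.obj (op Y.unop.base) from r) •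
          (φ.app (op Y.unop.base)).hom (of M (op Y.unop.base) Y.unop.elt m)
      rw [← map_smul]
      congr 1
      exact of_smul M (op Y.unop.base) Y.unop.elt r m)

lemma toRestr_app {M : PresheafOfModules.{u} (rover R F)} {N : PresheafOfModules.{u} R}
    (φ : sh M ⟶ N) (Y : (El F)ᵒᵖ) (m : M.obj Y) :
    ((toRestr φ).app Y).hom m = (φ.app (op Y.unop.base)).hom (of M (op Y.unop.base) Y.unop.elt m) :=
  rfl

/-- The component at `f` of a map to the restriction. -/
noncomputable def fromRestrFib {M : PresheafOfModules.{u} (rover R F)} {N : PresheafOfModules.{u} R}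
    (ψ : M ⟶ (restr R F).obj N) (U : Cᵒᵖ) (f : F.obj U) : fib M U f →ₗ[R.obj U] N.obj U where
  toFun m := (ψ.app (op (⟨U.unop, f⟩ : El F))).hom m
  map_add' a b := map_add (ψ.app (op (⟨U.unop, f⟩ : El F))).hom a b
  map_smul' r a := (ψ.app (op (⟨U.unop, f⟩ : El F))).hom.map_smul r a

open Classical in
/-- The sections of the map out of the extension by zero attached to a map to the restriction. -/
noncomputable def fromRestrApp {M : PresheafOfModules.{u} (rover R F)} {N : PresheafOfModules.{u} R}
    (ψ : M ⟶ (restr R F).obj N) (U : Cᵒᵖ) : shObj M U →ₗ[R.obj U] N.obj U :=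
  DirectSum.toModule (R.obj U) _ _ (fromRestrFib ψ U)

@[simp]
lemma fromRestrApp_of {M : PresheafOfModules.{u} (rover R F)} {N : PresheafOfModules.{u} R}
    (ψ : M ⟶ (restr R F).obj N) (U : Cᵒᵖ) (f : F.obj U) (m : fib M U f) :
    fromRestrApp ψ U (of M U f m) = (ψ.app (op (⟨U.unop, f⟩ : El F))).hom m := by
  classical
  exact DirectSum.toModule_lof _ _ _

/-- From maps into the restriction to maps out of the extension by zero. -/
noncomputable def fromRestr {M : PresheafOfModules.{u} (rover R F)} {N : PresheafOfModules.{u} R}
    (ψ : M ⟶ (restr R F).obj N) : sh M ⟶ N :=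
  PresheafOfModules.homMk (M₁ := sh M)
    { app := fun U => AddCommGrpCat.ofHom (fromRestrApp ψ U).toAddMonoidHom
      naturality := by
        intro U V g
        ext1
        apply addHom_ext'
        intro f m
        change fromRestrApp ψ V (res M g (of M U f m)) = N.map g (fromRestrApp ψ U (of M U f m))
        rw [res_of, fromRestrApp_of, fromRestrApp_of]
        exact PresheafOfModules.naturality_apply ψ
          (El.lift g f).op m }
    (fun U r m => (fromRestrApp ψ U).map_smul r m)

lemma fromRestr_app {M : PresheafOfModules.{u} (rover R F)} {N : PresheafOfModules.{u} R}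
    (ψ : M ⟶ (restr R F).obj N) (U : Cᵒᵖ) (m : shObj M U) :
    ((fromRestr ψ).app U).hom m = fromRestrApp ψ U m := rfl

variable (R F) in
/-- Extension by zero is left adjoint to restriction. -/
noncomputable def adj : shriek R F ⊣ restr R F :=
  Adjunction.mkOfHomEquiv
    { homEquiv := fun M N =>
        { toFun := fun φ => toRestr φ
          invFun := fun ψ => fromRestr ψ
          left_inv := fun φ => by
            apply sh_hom_ext
            intro U f m
            rw [fromRestr_app, fromRestrApp_of]
            rfl
          right_inv := fun ψ => by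
            ext Y m
            exact fromRestrApp_of ψ (op Y.unop.base) Y.unop.elt m }
      homEquiv_naturality_left_symm := by
        intro M' M N a b
        apply sh_hom_ext
        intro U f m
        change fromRestrApp (a ≫ b) U (of M' U f m) = fromRestrApp b U (shMapApp a U (of M' U f m))
        rw [shMapApp_of, fromRestrApp_of, fromRestrApp_of]
        rfl
      homEquiv_naturality_right := by
        intro M N N' a b
        rfl }

lemma adj_unit_app (M : PresheafOfModules.{u} (rover R F)) (Y : (El F)ᵒᵖ) (m : M.obj Y) :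
    (((adj R F).unit.app M).app Y).hom m = of M (op Y.unop.base) Y.unop.elt m := rfl

lemma adj_unit_injective (M : PresheafOfModules.{u} (rover R F)) (Y : (El F)ᵒᵖ) :
    Function.Injective (((adj R F).unit.app M).app Y).hom :=
  of_injective M (op Y.unop.base) Y.unop.elt

open Classical in
/-- The projection to a component. -/
noncomputable def proj (M : PresheafOfModules.{u} (rover R F)) (U : Cᵒᵖ) (f : F.obj U) :
    shObj M U →ₗ[R.obj U] fib M U f := DirectSum.component (R.obj U) _ _ f

lemma shMapApp_apply {M N : PresheafOfModules.{u} (rover R F)} (φ : M ⟶ N) (U : Cᵒᵖ)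
    (x : shObj M U) (f : F.obj U) :
    (shMapApp φ U x) f = (φ.app (op (⟨U.unop, f⟩ : El F))).hom (x f) := by
  classical
  induction x using DirectSum.induction_on with
  | zero => simp
  | of g m =>
    change (shMapApp φ U (of M U g m)) f = _
    rw [shMapApp_of]
    change _ = (φ.app (op (⟨U.unop, f⟩ : El F))).hom ((of M U g m) f)
    by_cases h : g = f
    · subst h
      rw [of_apply_same, of_apply_same]
    · rw [of_apply_ne _ _ h, of_apply_ne _ _ h]
      exact (map_zero _).symm
  | add a b ha hb => rw [map_add, DirectSum.add_apply, DirectSum.add_apply, map_add, ha, hb]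

lemma shMapApp_injective {M N : PresheafOfModules.{u} (rover R F)} (φ : M ⟶ N)
    (h : ∀ Y : (El F)ᵒᵖ, Function.Injective (φ.app Y).hom) (U : Cᵒᵖ) :
    Function.Injective (shMapApp φ U) := by
  intro a b hab
  refine DFinsupp.ext fun f => ?_
  apply h (op (⟨U.unop, f⟩ : El F))
  have := congrArg (fun t : shObj N U => t f) hab
  dsimp only at this
  rwa [shMapApp_apply, shMapApp_apply] at this

end K579.ElShriek
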