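import Groth.Agent.DerComp.K579.OverMor

/-!
# Sheaves of ideals generated by the image of a sheaf of ideals, locally

`over_le`: for `f : (C, O_C) → (D, O_D)`, `I ⊂ O_D` with `I|_V` generated by sections `a i ∈ O_D(V)` and `I'` the extension of `I`,
the restriction `I'|_{uV}` is contained in every sheaf of ideals containing the sections `f♯(a i)`.
-/

set_option autoImplicit false

universe v u

open CategoryTheory CategoryTheory.Limits Opposite

namespace K579.IdealDesc

open K780.CovFlat K579.OverMor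

section Desc

variable {C : Type u} [SmallCategory C] {J : GrothendieckTopology C} {O : Sheaf J CommRingCat.{u}} {U : C}

/-- Restriction of sections. -/
def rs {W W' : C} (t : W' ⟶ W) (s : O.obj.obj (op W)) : O.obj.obj (op W') := (O.obj.map t.op).hom s

lemma rs_comp {W W' W'' : C} (t' : W'' ⟶ W') (t : W' ⟶ W) (s : O.obj.obj (op W)) : rs (t' ≫ t) s = rs t' (rs t s) := by
  rw [rs, op_comp, Functor.map_comp, CommRingCat.hom_comp, RingHom.comp_apply]
  rfl

lemma rs_id {W : C} (s : O.obj.obj (op W)) : rs (𝟙 W) s = s := by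
  rw [rs, op_id, O.obj.map_id, CommRingCat.hom_id, RingHom.id_apply]

/-- Membership in a sheaf of ideals of `C/U`. -/
def Mem (𝔞 : DerComp.IdealSh (O.over U)) (X : Over U) (s : O.obj.obj (op X.left)) : Prop := s ∈ 𝔞.ideal X

lemma Mem.rs {𝔞 : DerComp.IdealSh (O.over U)} {X Y : Over U} {s : O.obj.obj (op X.left)} (h : Mem 𝔞 X s) (g : Y ⟶ X) :
    Mem 𝔞 Y (rs g.left s) := 𝔞.map_mem g h

lemma Mem.glue {𝔞 : DerComp.IdealSh (O.over U)} {X : Over U} {s : O.obj.obj (op X.left)} (S : Sieve X.left)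
    (hS : S ∈ J X.left) (h : ∀ ⦃Y : Over U⦄ (g : Y ⟶ X), S g.left → Mem 𝔞 Y (IdealDesc.rs g.left s)) : Mem 𝔞 X s :=
  𝔞.glue ((Sieve.overEquiv X).symm S) (J.overEquiv_symm_mem_over _ _ hS)
    fun _ g hg => h g ((Sieve.overEquiv_symm_iff _ g).1 hg)

/-- The largest sheaf of ideals whose restriction to `C/U` is contained in a given one. -/
def desc (𝔞 : DerComp.IdealSh (O.over U)) : DerComp.IdealSh O where
  ideal W :=
    { carrier := {s | ∀ (W' : C) (t : W' ⟶ W) (φ : W' ⟶ U), Mem 𝔞 (Over.mk φ) (rs t s)}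
      zero_mem' := fun W' t φ => by
        have h : rs t (0 : O.obj.obj (op W)) = 0 := map_zero (O.obj.map t.op).hom
        rw [h]
        exact (𝔞.ideal (Over.mk φ)).zero_mem
      add_mem' := fun {a b} ha hb W' t φ => by
        have h : rs t (a + b) = rs t a + rs t b := map_add (O.obj.map t.op).hom a b
        rw [h]
        exact (𝔞.ideal (Over.mk φ)).add_mem (ha W' t φ) (hb W' t φ)
      smul_mem' := fun a b hb W' t φ => by
        have h : rs t (a • b) = rs t a * rs t b := map_mul (O.obj.map t.op).hom a b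
        rw [h]
        exact (𝔞.ideal (Over.mk φ)).mul_mem_left (show O.obj.obj (op W') from rs t a) (hb W' t φ) }
  map_mem {W W'} g s hs := by
    intro W'' t φ
    have h1 := hs W'' (t ≫ g) φ
    rwa [rs_comp] at h1
  glue {W s} S hS h := by
    intro W' t φ
    refine Mem.glue (S.pullback t) (J.pullback_stable t hS) fun Y g hg => ?_
    have h2 := h (g.left ≫ t) hg Y.left (𝟙 _) Y.hom
    rw [rs_id] at h2
    have h3 : IdealDesc.rs g.left (IdealDesc.rs t s) = (O.obj.map (g.left ≫ t).op).hom s := (rs_comp _ _ _).symm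
    rw [h3]
    exact h2

lemma mem_desc {𝔞 : DerComp.IdealSh (O.over U)} {W : C} {s : O.obj.obj (op W)} :
    s ∈ (desc 𝔞).ideal W ↔ ∀ (W' : C) (t : W' ⟶ W) (φ : W' ⟶ U), Mem 𝔞 (Over.mk φ) (rs t s) := Iff.rfl

lemma desc_over_le (𝔞 : DerComp.IdealSh (O.over U)) : (desc 𝔞).over U ≤ 𝔞 := by
  intro X s hs
  have h1 := mem_desc.1 hs X.left (𝟙 _) X.hom
  rw [rs_id] at h1
  exact h1

end Desc

section Pull

variable {C D : Type u} [SmallCategory C] [SmallCategory D] {J : GrothendieckTopology C} {K : GrothendieckTopology D}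
  {O_C : Sheaf J CommRingCat.{u}} {O_D : Sheaf K CommRingCat.{u}} (f : ModSite.RMor O_C O_D)

/-- The value of `f♯`. -/
def shp (V : D) (g : O_D.obj.obj (op V)) : O_C.obj.obj (op (f.fn.obj V)) := (f.sharp.hom.app (op V)).hom g

lemma rs_shp {V W : D} (t : W ⟶ V) (g : O_D.obj.obj (op V)) :
    rs (f.fn.map t) (shp f V g) = shp f W (rs t g) :=
  (NatTrans.naturality_apply f.sharp.hom t.op g).symm

/-- The preimage of a sheaf of ideals. -/
def pullI (𝔞 : DerComp.IdealSh O_C) : DerComp.IdealSh O_D where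
  ideal V := (𝔞.ideal (f.fn.obj V)).comap (f.sharp.hom.app (op V)).hom
  map_mem {V W} t g hg := by
    have h1 : rs (f.fn.map t) (shp f V g) ∈ 𝔞.ideal (f.fn.obj W) := 𝔞.map_mem (f.fn.map t) hg
    rw [rs_shp] at h1
    exact h1
  glue {V g} S hS h := by
    refine 𝔞.glue (S.functorPushforward f.fn) ((coverPreserving f).cover_preserve hS) ?_
    rintro Y _ ⟨Z, k, t, hk, rfl⟩
    have h1 : shp f Z (rs k g) ∈ 𝔞.ideal (f.fn.obj Z) := h k hk
    rw [← rs_shp] at h1
    have h2 : rs t (rs (f.fn.map k) (shp f V g)) ∈ 𝔞.ideal Y := 𝔞.map_mem t h1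
    rw [← rs_comp] at h2
    exact h2

lemma mem_pullI {𝔞 : DerComp.IdealSh O_C} {V : D} {g : O_D.obj.obj (op V)} :
    g ∈ (pullI f 𝔞).ideal V ↔ shp f V g ∈ 𝔞.ideal (f.fn.obj V) := Iff.rfl

end Pull

section Main

variable {C D : Type u} [SmallCategory C] [SmallCategory D] {J : GrothendieckTopology C} {K : GrothendieckTopology D}
  {O_C : Sheaf J CommRingCat.{u}} {O_D : Sheaf K CommRingCat.{u}} (f : ModSite.RMor O_C O_D)
  {I : DerComp.IdealSh O_D} {I' : DerComp.IdealSh O_C}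

theorem over_le (hI' : DerComp.RIsIdealExt f I I') {V : D} (𝔞 : DerComp.IdealSh (O_C.over (f.fn.obj V)))
    (h𝔞 : I.over V ≤ pullI (overMor f V) 𝔞) : I'.over (f.fn.obj V) ≤ 𝔞 := by
  have key : I' ≤ desc 𝔞 := by
    refine hI'.2 _ fun V₂ g hg => ?_
    change shp f V₂ g ∈ (desc 𝔞).ideal (f.fn.obj V₂)
    rw [mem_desc]
    intro W' t φ
    obtain ⟨S, hS, hS'⟩ := (isCF f).prod W' V₂ V t φ
    refine Mem.glue S hS fun Y k hk => ?_
    obtain ⟨V₃, g₁, g₂, y, e₁, e₂⟩ := hS' k.left hk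
    have h1 : Mem 𝔞 (Over.mk (f.fn.map g₂)) (shp f V₃ (rs g₁ g)) := h𝔞 (Over.mk g₂) (I.map_mem g₁ hg)
    rw [← rs_shp] at h1
    have e₂' : y ≫ f.fn.map g₂ = Y.hom := e₂.trans (Over.w k)
    have h2 := h1.rs (Over.homMk y e₂' : Y ⟶ Over.mk (f.fn.map g₂))
    have h3 : rs y (rs (f.fn.map g₁) (shp f V₂ g)) = rs k.left (rs t (shp f V₂ g)) := by
      rw [← rs_comp, e₁, rs_comp]
    rw [← h3]
    exact h2
  intro X s hs
  exact desc_over_le 𝔞 X (key X.left hs)

end Main

end K579.IdealDesc
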