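import Groth.Agent.DerComp.K579.ResLO
import Groth.Agent.DerComp.K780.GenBy

/-!
# Being left orthogonal to the derived complete objects is a local property

`tors_of_covering`: `X ∈ D(O)` is left orthogonal to the `I`-complete objects if `X|_V` is left orthogonal to the
`I|_V`-complete objects for all `V` in a covering class.
-/

set_option autoImplicit false

universe v v' w w' u u₁ u₂

open CategoryTheory CategoryTheory.Limits Opposite Pretriangulated

attribute [local instance] HasDerivedCategory.standard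

namespace K579.LOLocal

open K780.Away K780.Res K579.ResLO K779.Compl

section Abs

variable {T : Type u₁} [Category.{v} T] [Preadditive T] [HasZeroObject T] [HasShift T ℤ]
  [∀ n : ℤ, (shiftFunctor T n).Additive] [Pretriangulated T]

/-- If all `Hom(A, Z[n])` and `Hom(B, Z[n])` vanish then so do all `Hom(E, Z[n])`, for a triangle `A → B → E → A[1]`. -/
theorem subsingleton_obj₃ {A B E : T} {u : A ⟶ B} {v : B ⟶ E} {w : E ⟶ A⟦(1 : ℤ)⟧}
    (h : Triangle.mk u v w ∈ distTriang T) {Z : T} (hA : ∀ n : ℤ, Subsingleton (A ⟶ Z⟦n⟧))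
    (hB : ∀ n : ℤ, Subsingleton (B ⟶ Z⟦n⟧)) (n : ℤ) : Subsingleton (E ⟶ Z⟦n⟧) := by
  refine (subsingleton_iff_bijective h Z).2 (fun m => ?_) n
  have := hA m
  have := hB m
  exact ⟨fun _ _ _ => Subsingleton.elim _ _, fun y => ⟨0, Subsingleton.elim _ _⟩⟩

/-- If all `Hom(A, Z[n])` and `Hom(E, Z[n])` vanish then so do all `Hom(B, Z[n])`, for a triangle `A → B → E → A[1]`. -/
theorem subsingleton_obj₂ {A B E : T} {u : A ⟶ B} {v : B ⟶ E} {w : E ⟶ A⟦(1 : ℤ)⟧}
    (h : Triangle.mk u v w ∈ distTriang T) {Z : T} (hA : ∀ n : ℤ, Subsingleton (A ⟶ Z⟦n⟧))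
    (hE : ∀ n : ℤ, Subsingleton (E ⟶ Z⟦n⟧)) (n : ℤ) : Subsingleton (B ⟶ Z⟦n⟧) := by
  refine ⟨fun x y => ?_⟩
  rw [← sub_eq_zero]
  generalize x - y = z
  obtain ⟨c, hc⟩ := yo₂ h z ((hA n).elim _ _)
  rw [hc, (hE n).elim c 0, comp_zero]

end Abs

variable {C : Type u} [SmallCategory C] {J : GrothendieckTopology C} {O : Sheaf J CommRingCat.{u}}

/-- The restriction of a derived complete object is derived complete. -/
theorem isDerComp_res {I : DerComp.IdealSh O} {K : DerivedCategory (ModSite.Mod O)} (hK : DerComp.IsDerComp O I K)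
    (V : C) : DerComp.IsDerComp (O.over V) (I.over V) ((resD O V).obj K) := by
  intro U f hf
  exact (van_res O K U f).2 (hK U.left f hf)

/-- An object of `D(O)` whose restrictions to a covering class vanish is zero. -/
theorem isZero_of_res (B : C → Prop) (hB : K779.Gen.Covering J B) (K : DerivedCategory (ModSite.Mod O))
    (h : ∀ V, B V → IsZero ((resD O V).obj K)) : IsZero K := by
  refine K779.Gen.isZero_of_subsingleton O B hB K fun V hV n => ?_
  have h1 : IsZero (((resD O V).obj K)⟦n⟧) := Functor.map_isZero _ (h V hV)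
  have h2 : Subsingleton (SiteCmp.inD (O.over V) (ModSite.unit (O.over V)) ⟶ ((resD O V).obj K)⟦n⟧) :=
    ⟨fun a b => h1.eq_of_tgt a b⟩
  exact (homRes O V (ModSite.unit (O.over V)) K n).toEquiv.subsingleton

/-- **Locality of the left orthogonal.** -/
theorem tors_of_covering (I : DerComp.IdealSh O) (B : C → Prop) (hB : K779.Gen.Covering J B)
    (X : DerivedCategory (ModSite.Mod O)) (h : ∀ V, B V → Tors (O.over V) (I.over V) ((resD O V).obj X)) :
    Tors O I X := by
  obtain ⟨T, Y, f, g, k, ht, hY, hT⟩ := exists_triangle O I X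
  have hY0 : IsZero Y := by
    refine isZero_of_res B hB Y fun V hV => ?_
    have ht' := (resD O V).map_distinguished _ ht
    have h1 := tors_res V I hT
    have h2 := h V hV
    have h3 : Subsingleton ((resD O V).obj Y ⟶ ((resD O V).obj Y)⟦(0 : ℤ)⟧) :=
      subsingleton_obj₃ ht' (h1 _ (isDerComp_res hY V)) (h2 _ (isDerComp_res hY V)) 0
    rw [IsZero.iff_id_eq_zero, ← cancel_mono ((shiftFunctorZero _ ℤ).inv.app _)]
    exact h3.elim _ _
  intro Z hZ n
  exact subsingleton_obj₂ ht (hT Z hZ) (fun m => ⟨fun a b => hY0.eq_of_src a b⟩) n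

end K579.LOLocal
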