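import Mathlib.CategoryTheory.Triangulated.Functor
import Mathlib.CategoryTheory.Triangulated.Subcategory
import Mathlib.CategoryTheory.Adjunction.PartialAdjoint

/-!
# The domain of definition of the partial left adjoint of a triangulated functor

`Lft G`: the objects `E` with a universal arrow `E ⟶ G.obj L`.  It is a triangulated subcategory closed under
isomorphisms and coproducts.
-/

set_option autoImplicit false

universe w v₁ v₂ u₁ u₂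

open CategoryTheory CategoryTheory.Limits Pretriangulated ZeroObject

namespace K579.PartialTri

section Basic

variable {S : Type u₁} [Category.{v₁} S] {T : Type u₂} [Category.{v₂} T] (G : S ⥤ T)

/-- `u : E ⟶ G.obj L` is universal among morphisms from `E` to `G`. -/
def Univ {E : T} {L : S} (u : E ⟶ G.obj L) : Prop :=
  ∀ Y : S, Function.Bijective (fun φ : L ⟶ Y => u ≫ G.map φ)

/-- The domain of definition of the partial left adjoint. -/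
def Lft : ObjectProperty T := fun E => ∃ (L : S) (u : E ⟶ G.obj L), Univ G u

variable {G}

theorem Univ.of_iso {E E' : T} {L : S} {u : E ⟶ G.obj L} (h : Univ G u) (e : E' ≅ E) :
    Univ G (e.hom ≫ u) := fun Y => by
  have h1 : (fun φ : L ⟶ Y => (e.hom ≫ u) ≫ G.map φ) =
      (fun x : E ⟶ G.obj Y => e.hom ≫ x) ∘ (fun φ : L ⟶ Y => u ≫ G.map φ) := by
    ext φ
    simp
  rw [h1]
  refine Function.Bijective.comp ⟨fun a b hab => (cancel_epi e.hom).1 hab, fun x => ⟨e.inv ≫ x, by simp⟩⟩ (h Y)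

instance : (Lft G).IsClosedUnderIsomorphisms where
  of_iso := by
    rintro E E' e ⟨L, u, hu⟩
    exact ⟨L, e.inv ≫ u, hu.of_iso e.symm⟩

theorem isRightAdjoint_of_lft (h : ∀ E, Lft G E) : G.IsRightAdjoint := by
  choose F u hu using h
  let e : ∀ (E : T) (Y : S), (F E ⟶ Y) ≃ (E ⟶ G.obj Y) := fun E Y => Equiv.ofBijective _ (hu E Y)
  exact (Adjunction.adjunctionOfEquivLeft e (fun E Y Y' g f => by
    change u E ≫ G.map (f ≫ g) = (u E ≫ G.map f) ≫ G.map g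
    rw [Functor.map_comp, Category.assoc])).isRightAdjoint

theorem lft_of_isRightAdjoint [G.IsRightAdjoint] (E : T) : Lft G E := by
  let adj := Adjunction.ofIsRightAdjoint G
  refine ⟨G.leftAdjoint.obj E, adj.unit.app E, fun Y => ?_⟩
  have h : (fun φ : G.leftAdjoint.obj E ⟶ Y => adj.unit.app E ≫ G.map φ) = adj.homEquiv E Y := by
    ext φ
    rw [Adjunction.homEquiv_unit]
  rw [h]
  exact (adj.homEquiv E Y).bijective

/-- `Lft G` is closed under coproducts. -/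
theorem lft_cofan {κ : Type w} [HasCoproductsOfShape κ S] (K : κ → T) (c : Cofan K) (hc : IsColimit c)
    (h : ∀ k, Lft G (K k)) : Lft G c.pt := by
  choose L u hu using h
  refine ⟨∐ L, Cofan.IsColimit.desc hc (fun k => u k ≫ G.map (Sigma.ι L k)), fun Y => ⟨?_, ?_⟩⟩
  · intro φ ψ h
    refine Limits.Sigma.hom_ext _ _ fun k => (hu k Y).1 ?_
    have h1 := c.inj k ≫= h
    simp only [Cofan.IsColimit.fac_assoc, Category.assoc] at h1
    simpa only [Functor.map_comp] using h1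
  · intro ψ
    choose φ hφ using fun k => (hu k Y).2 (c.inj k ≫ ψ)
    refine ⟨Sigma.desc φ, Cofan.IsColimit.hom_ext hc _ _ fun k => ?_⟩
    have h1 : u k ≫ G.map (φ k) = c.inj k ≫ ψ := hφ k
    simp only [Cofan.IsColimit.fac_assoc, Category.assoc]
    rw [← G.map_comp, Sigma.ι_desc, h1]

end Basic

section Tri

variable {S : Type u₁} [Category.{v₁} S] [HasZeroObject S] [HasShift S ℤ] [Preadditive S]
  [∀ n : ℤ, (shiftFunctor S n).Additive] [Pretriangulated S]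
  {T : Type u₂} [Category.{v₂} T] [HasZeroObject T] [HasShift T ℤ] [Preadditive T]
  [∀ n : ℤ, (shiftFunctor T n).Additive] [Pretriangulated T]
  (G : S ⥤ T) [G.CommShift ℤ] [G.IsTriangulated]

omit [HasZeroObject S] [Preadditive S] [∀ n : ℤ, (shiftFunctor S n).Additive] [Pretriangulated S]
  [HasZeroObject T] [Preadditive T] [∀ n : ℤ, (shiftFunctor T n).Additive] [Pretriangulated T]
  [G.IsTriangulated] in
theorem Univ.shift {E : T} {L : S} {u : E ⟶ G.obj L} (h : Univ G u) (n : ℤ) :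
    Univ G (u⟦n⟧' ≫ (G.commShiftIso n).inv.app L) := fun Y => by
  let e : (Y⟦-n⟧)⟦n⟧ ≅ Y := (shiftFunctorCompIsoId S (-n) n (by lia)).app Y
  let a : (L ⟶ Y⟦-n⟧) → (L⟦n⟧ ⟶ Y) := fun ψ => ψ⟦n⟧' ≫ e.hom
  have ha : Function.Bijective a := by
    constructor
    · intro ψ ψ' h
      exact (shiftFunctor S n).map_injective ((cancel_mono e.hom).1 h)
    · intro φ
      obtain ⟨ψ, hψ⟩ := (shiftFunctor S n).map_surjective (φ ≫ e.inv)
      exact ⟨ψ, by simp [a, hψ]⟩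
  let i : (G.obj (Y⟦-n⟧))⟦n⟧ ≅ G.obj Y := ((G.commShiftIso n).app (Y⟦-n⟧)).symm ≪≫ G.mapIso e
  let b : (E ⟶ G.obj (Y⟦-n⟧)) → (E⟦n⟧ ⟶ G.obj Y) := fun ψ => ψ⟦n⟧' ≫ i.hom
  have hb : Function.Bijective b := by
    constructor
    · intro ψ ψ' h
      exact (shiftFunctor T n).map_injective ((cancel_mono i.hom).1 h)
    · intro φ
      obtain ⟨ψ, hψ⟩ := (shiftFunctor T n).map_surjective (φ ≫ i.inv)
      exact ⟨ψ, by simp only [b, hψ, Category.assoc, Iso.inv_hom_id, Category.comp_id]⟩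
  have key : (fun φ : L⟦n⟧ ⟶ Y => (u⟦n⟧' ≫ (G.commShiftIso n).inv.app L) ≫ G.map φ) ∘ a =
      b ∘ (fun ψ => u ≫ G.map ψ) := by
    ext ψ
    have h1 : (G.commShiftIso n).inv.app L ≫ G.map (ψ⟦n⟧') =
        (G.map ψ)⟦n⟧' ≫ (G.commShiftIso n).inv.app (Y⟦-n⟧) :=
      ((G.commShiftIso n).inv.naturality ψ).symm
    simp only [Function.comp_apply, a, b, i, Functor.map_comp, Category.assoc, Iso.trans_hom, Iso.symm_hom,
      Iso.app_inv, Functor.mapIso_hom]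
    rw [reassoc_of% h1]
  rw [← Function.Bijective.of_comp_iff _ ha, key]
  exact hb.comp (h _)

theorem Univ.cone {E₁ E₂ E₃ : T} {f : E₁ ⟶ E₂} {g : E₂ ⟶ E₃} {h : E₃ ⟶ E₁⟦(1 : ℤ)⟧}
    (hE : Triangle.mk f g h ∈ distTriang T) {L₁ L₂ : S} {u₁ : E₁ ⟶ G.obj L₁} {u₂ : E₂ ⟶ G.obj L₂}
    (h₁ : Univ G u₁) (h₂ : Univ G u₂) : Lft G E₃ := by
  obtain ⟨a, ha⟩ := (h₁ L₂).2 (f ≫ u₂)
  change u₁ ≫ G.map a = f ≫ u₂ at ha
  obtain ⟨L₃, b, c, hT⟩ := distinguished_cocone_triangle a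
  have hGT := G.map_distinguished _ hT
  obtain ⟨u₃, hu₃, hu₃'⟩ := complete_distinguished_triangle_morphism _ _ hE hGT u₁ u₂ ha.symm
  change E₃ ⟶ G.obj L₃ at u₃
  change g ≫ u₃ = u₂ ≫ G.map b at hu₃
  change h ≫ u₁⟦(1 : ℤ)⟧' = u₃ ≫ G.map c ≫ (G.commShiftIso (1 : ℤ)).hom.app L₁ at hu₃'
  have hu₃'' : h ≫ u₁⟦(1 : ℤ)⟧' ≫ (G.commShiftIso (1 : ℤ)).inv.app L₁ = u₃ ≫ G.map c := by
    rw [← Category.assoc, hu₃', Category.assoc, Category.assoc]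
    simp
  have hs₁ := h₁.shift G (1 : ℤ)
  have hs₂ := h₂.shift G (1 : ℤ)
  have hab : a ≫ b = 0 := comp_distTriang_mor_zero₁₂ _ hT
  have hbc : b ≫ c = 0 := comp_distTriang_mor_zero₂₃ _ hT
  have hca : c ≫ a⟦(1 : ℤ)⟧' = 0 := comp_distTriang_mor_zero₃₁ _ hT
  have hfg : f ≫ g = 0 := comp_distTriang_mor_zero₁₂ _ hE
  refine ⟨L₃, u₃, fun Y => ⟨?_, ?_⟩⟩
  · intro φ φ' hφ
    rw [← sub_eq_zero]
    have hφ0 : u₃ ≫ G.map (φ - φ') = 0 := by
      rw [G.map_sub, Preadditive.comp_sub, sub_eq_zero]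
      exact hφ
    generalize φ - φ' = φ at hφ0
    have h3 : b ≫ φ = 0 := by
      apply (h₂ Y).1
      change u₂ ≫ G.map (b ≫ φ) = u₂ ≫ G.map 0
      rw [G.map_comp, ← Category.assoc, ← hu₃, Category.assoc, hφ0, comp_zero, G.map_zero, comp_zero]
    obtain ⟨σ, hσ⟩ := Triangle.yoneda_exact₃ _ hT φ h3
    change L₁⟦(1 : ℤ)⟧ ⟶ Y at σ
    change φ = c ≫ σ at hσ
    have h4 : h ≫ ((u₁⟦(1 : ℤ)⟧' ≫ (G.commShiftIso (1 : ℤ)).inv.app L₁) ≫ G.map σ) = 0 := by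
      rw [Category.assoc, ← Category.assoc (u₁⟦(1 : ℤ)⟧'), ← Category.assoc, hu₃'', Category.assoc, ← G.map_comp,
        ← hσ, hφ0]
    obtain ⟨τ, hτ⟩ := Triangle.yoneda_exact₃ _ (rot_of_distTriang _ hE) _ h4
    change E₂⟦(1 : ℤ)⟧ ⟶ G.obj Y at τ
    change _ = (-f⟦(1 : ℤ)⟧') ≫ τ at hτ
    obtain ⟨υ, hυ⟩ := (hs₂ Y).2 τ
    change (u₂⟦(1 : ℤ)⟧' ≫ (G.commShiftIso (1 : ℤ)).inv.app L₂) ≫ G.map υ = τ at hυ
    have h5 : σ = -(a⟦(1 : ℤ)⟧' ≫ υ) := by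
      apply (hs₁ Y).1
      change (u₁⟦(1 : ℤ)⟧' ≫ (G.commShiftIso (1 : ℤ)).inv.app L₁) ≫ G.map σ =
        (u₁⟦(1 : ℤ)⟧' ≫ (G.commShiftIso (1 : ℤ)).inv.app L₁) ≫ G.map (-(a⟦(1 : ℤ)⟧' ≫ υ))
      have h6 : (G.commShiftIso (1 : ℤ)).inv.app L₁ ≫ G.map (a⟦(1 : ℤ)⟧') =
          (G.map a)⟦(1 : ℤ)⟧' ≫ (G.commShiftIso (1 : ℤ)).inv.app L₂ :=
        ((G.commShiftIso (1 : ℤ)).inv.naturality a).symm
      rw [hτ, ← hυ, G.map_neg, Preadditive.comp_neg, Preadditive.neg_comp, G.map_comp]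
      simp only [Category.assoc]
      rw [reassoc_of% h6, ← Category.assoc (u₁⟦(1 : ℤ)⟧'), ← Functor.map_comp, ha, Functor.map_comp, Category.assoc]
    rw [hσ, h5, Preadditive.comp_neg, ← Category.assoc, hca, zero_comp, neg_zero]
  · intro ψ
    obtain ⟨φ₂, hφ₂⟩ := (h₂ Y).2 (g ≫ ψ)
    change u₂ ≫ G.map φ₂ = g ≫ ψ at hφ₂
    have h3 : a ≫ φ₂ = 0 := by
      apply (h₁ Y).1
      change u₁ ≫ G.map (a ≫ φ₂) = u₁ ≫ G.map 0
      rw [G.map_comp, ← Category.assoc, ha, Category.assoc, hφ₂, ← Category.assoc, hfg, zero_comp, G.map_zero,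
        comp_zero]
    obtain ⟨φ₃, hφ₃⟩ := Triangle.yoneda_exact₂ _ hT φ₂ h3
    change L₃ ⟶ Y at φ₃
    change φ₂ = b ≫ φ₃ at hφ₃
    have h4 : g ≫ (ψ - u₃ ≫ G.map φ₃) = 0 := by
      rw [Preadditive.comp_sub, ← Category.assoc, hu₃, Category.assoc, ← G.map_comp, ← hφ₃, hφ₂, sub_self]
    obtain ⟨ρ, hρ⟩ := Triangle.yoneda_exact₃ _ hE _ h4
    change E₁⟦(1 : ℤ)⟧ ⟶ G.obj Y at ρ
    change _ = h ≫ ρ at hρ
    obtain ⟨σ, hσ⟩ := (hs₁ Y).2 ρ
    change (u₁⟦(1 : ℤ)⟧' ≫ (G.commShiftIso (1 : ℤ)).inv.app L₁) ≫ G.map σ = ρ at hσ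
    refine ⟨φ₃ + c ≫ σ, ?_⟩
    change u₃ ≫ G.map (φ₃ + c ≫ σ) = ψ
    rw [G.map_add, Preadditive.comp_add, G.map_comp, ← Category.assoc u₃ (G.map c), ← hu₃'', ← eq_sub_iff_add_eq',
      hρ, ← hσ]
    simp only [Category.assoc]

instance : (Lft G).IsStableUnderShift ℤ where
  isStableUnderShiftBy n := ⟨by
    rintro E ⟨L, u, hu⟩
    exact ⟨_, _, hu.shift G n⟩⟩

instance : (Lft G).IsTriangulated where
  exists_zero := ⟨0, isZero_zero _, 0, 0, fun Y => ⟨fun a b _ => (isZero_zero S).eq_of_src a b,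
    fun b => ⟨0, (isZero_zero T).eq_of_src _ _⟩⟩⟩
  toIsTriangulatedClosed₂ := .mk' (fun Tr hTr h₁ h₃ => by
    have h₃' : Lft G (Tr.obj₃⟦(-1 : ℤ)⟧) := (Lft G).le_shift (-1 : ℤ) _ h₃
    obtain ⟨L₁, u₁, hu₁⟩ := h₁
    obtain ⟨L₃, u₃, hu₃⟩ := h₃'
    exact Univ.cone G (inv_rot_of_distTriang _ hTr) hu₃ hu₁)

end Tri

end K579.PartialTri
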