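import Groth.Agent.SiteCmp.K579.RpushProd
import Groth.Agent.DerComp.K779.Sec
import Groth.Agent.DerComp.K579.PartialTri

/-!
# The natural map `X ⟶ Rf_* (f^* X)` for modules `X`, and its universal property for free modules
-/

set_option autoImplicit false
universe w' w'' u

open CategoryTheory CategoryTheory.Limits Opposite DerivedCategory

attribute [local instance] HasDerivedCategory.standard

noncomputable section
namespace K579.LerayNat

open K578.ModTest K578.Der K578.PushComp K579.GoodObj K579.LerayUnb Groth.Agent.CohtopB K579.RpushProd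
  K579.PartialTri

section Free

variable {C : Type u} [SmallCategory C] {J : GrothendieckTopology C} (O : Sheaf J CommRingCat.{u})

/-- The two models of the free module on an object. -/
def freeIso (U : C) : (PO O).obj U ≅ ModSite.freeOn O U where
  hom := (homEq (ModSite.ringSh O) U _).symm (K779.Sec.sec O U _ (𝟙 _))
  inv := (K779.Sec.sec O U _).symm (homEq (ModSite.ringSh O) U _ (𝟙 _))
  hom_inv_id := by
    apply (homEq (ModSite.ringSh O) U _).injective
    rw [homEq_comp, Equiv.apply_symm_apply]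
    refine (K779.Sec.sec_comp O U (𝟙 _) _).symm.trans ?_
    rw [Category.id_comp, AddEquiv.apply_symm_apply]
  inv_hom_id := by
    apply (K779.Sec.sec O U _).injective
    rw [K779.Sec.sec_comp, AddEquiv.apply_symm_apply]
    refine (homEq_comp (𝟙 _) _).symm.trans ?_
    rw [Category.id_comp, Equiv.apply_symm_apply]

end Free

variable {C : Type u} [SmallCategory C] {J : GrothendieckTopology C} {O_C : Sheaf J CommRingCat.{u}}
    {D : Type u} [SmallCategory D] {K : GrothendieckTopology D} {O_D : Sheaf K CommRingCat.{u}}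
    (f : ModSite.RMor O_C O_D)

/-- The image of a section under the ring map of `f`. -/
def shp (V : D) (g : O_D.obj.obj (op V)) : O_C.obj.obj (op (f.fn.obj V)) := (f.sharp.hom.app (op V)).hom g

/-- The map `f^* O_V ⟶ O_{fn V}`. -/
def pullFree (V : D) : f.pull.obj (ModSite.freeOn O_D V) ⟶ ModSite.freeOn O_C (f.fn.obj V) :=
  (f.adj.homEquiv _ _).symm ((K779.Sec.sec O_D V _).symm
    (pushSec f V _ (K779.Sec.sec O_C (f.fn.obj V) _ (𝟙 _))))

lemma sec_homEquiv_pullFree (V : D) {F : ModSite.Mod O_C} (z : ModSite.freeOn O_C (f.fn.obj V) ⟶ F) :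
    K779.Sec.sec O_D V (f.push.obj F) (f.adj.homEquiv _ _ (pullFree f V ≫ z)) =
      pushSec f V _ (K779.Sec.sec O_C (f.fn.obj V) F z) := by
  rw [Adjunction.homEquiv_naturality_right, K779.Sec.sec_comp, pullFree, Equiv.apply_symm_apply,
    AddEquiv.apply_symm_apply]
  refine (K779.Sec.sec_comp O_C (f.fn.obj V) (𝟙 _) z).symm.trans ?_
  rw [Category.id_comp]
  rfl

instance (V : D) : IsIso (pullFree f V) := by
  refine isIso_of_coyoneda_map_bijective _ (fun F => ?_)
  have h : (K779.Sec.sec O_D V (f.push.obj F)) ∘ (f.adj.homEquiv _ _) ∘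
      (fun z : ModSite.freeOn O_C (f.fn.obj V) ⟶ F => pullFree f V ≫ z) =
      fun z => pushSec f V _ (K779.Sec.sec O_C (f.fn.obj V) F z) :=
    funext fun z => sec_homEquiv_pullFree f V z
  refine ((f.adj.homEquiv _ _).bijective.of_comp_iff' _).1 ?_
  refine ((K779.Sec.sec O_D V (f.push.obj F)).bijective.of_comp_iff' _).1 ?_
  rw [h]
  exact (K779.Sec.sec O_C (f.fn.obj V) F).bijective

/-- compatibility with multiplication by sections. -/
lemma pullFree_mul (V : D) (g : O_D.obj.obj (op V)) :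
    f.pull.map (K779.Sec.mul O_D V g) ≫ pullFree f V =
      pullFree f V ≫ K779.Sec.mul O_C (f.fn.obj V) (shp f V g) := by
  apply (f.adj.homEquiv _ _).injective
  apply (K779.Sec.sec O_D V _).injective
  rw [sec_homEquiv_pullFree, Adjunction.homEquiv_naturality_left, K779.Sec.sec_mul]
  have h1 := sec_homEquiv_pullFree f V (𝟙 (ModSite.freeOn O_C (f.fn.obj V)))
  rw [Category.comp_id] at h1
  rw [h1]
  have h2 := K779.Sec.sec_mul O_C (f.fn.obj V) (shp f V g) (𝟙 (ModSite.freeOn O_C (f.fn.obj V)))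
  rw [Category.comp_id] at h2
  rw [h2]
  rfl

section Nat

variable [SiteCmp.HasRpushD f]

/-- a module as an object of the homotopy category, in degree `0`. -/
abbrev sgl (O : Sheaf J CommRingCat.{u}) : ModSite.Mod O ⥤ HomotopyCategory (ModSite.Mod O) (ComplexShape.up ℤ) :=
  CochainComplex.singleFunctor (ModSite.Mod O) 0 ⋙ HomotopyCategory.quotient _ _

/-- Comparison of the two single functors. -/
def sglIso (O : Sheaf J CommRingCat.{u}) : singleFunctor (ModSite.Mod O) 0 ≅ sgl O ⋙ Qh :=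
  singleFunctorIsoCompQ (ModSite.Mod O) 0

/-- `f^*` of a module in degree `0`. -/
def pullSgl : sgl O_D ⋙ f.pull.mapHomotopyCategory (ComplexShape.up ℤ) ≅ f.pull ⋙ sgl O_C :=
  Functor.isoWhiskerRight (HomologicalComplex.singleMapHomologicalComplex f.pull (ComplexShape.up ℤ) 0)
    (HomotopyCategory.quotient _ _)

/-- `eta` as a natural transformation. -/
def etaNat : (Qh : HomotopyCategory (ModSite.Mod O_D) (ComplexShape.up ℤ) ⥤ _) ⟶
    f.pull.mapHomotopyCategory (ComplexShape.up ℤ) ⋙ Qh ⋙ SiteCmp.RpushD f where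
  app T := eta (Groth.Agent.Dcoh.DerAdj.adjHo f.adj (ComplexShape.up ℤ)) T (SiteCmp.RpushD f) (rpushUnit f)
  naturality T T' m := by
    have h1 := (Groth.Agent.Dcoh.DerAdj.adjHo f.adj (ComplexShape.up ℤ)).unit.naturality m
    have h2 := (rpushUnit f).naturality ((f.pull.mapHomotopyCategory (ComplexShape.up ℤ)).map m)
    dsimp at h1 h2 ⊢
    rw [eta, eta, Category.assoc, ← h2, ← Functor.map_comp_assoc, h1, Functor.map_comp, Category.assoc]

/-- The natural map `X ⟶ Rf_* (f^* X)`, `X` a module in degree `0`. -/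
def eps : singleFunctor (ModSite.Mod O_D) 0 ⟶ f.pull ⋙ singleFunctor (ModSite.Mod O_C) 0 ⋙ SiteCmp.RpushD f :=
  (sglIso O_D).hom ≫ Functor.whiskerLeft (sgl O_D) (etaNat f) ≫
    Functor.whiskerRight (pullSgl f).hom (Qh ⋙ SiteCmp.RpushD f) ≫
    Functor.whiskerLeft f.pull (Functor.whiskerRight (sglIso O_C).inv (SiteCmp.RpushD f))

lemma univ_map {S T : Type*} [Category* S] [Category* T] {G : S ⥤ T} {E : T} {L L' : S} {u : E ⟶ G.obj L}
    (h : Univ G u) (e : L ≅ L') : Univ G (u ≫ G.map e.hom) := fun Y => by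
  have h1 : (fun φ : L' ⟶ Y => (u ≫ G.map e.hom) ≫ G.map φ) =
      (fun φ : L ⟶ Y => u ≫ G.map φ) ∘ (fun φ : L' ⟶ Y => e.hom ≫ φ) := by
    ext φ
    simp
  rw [h1]
  refine (h Y).comp ⟨fun a b hab => (cancel_epi e.hom).1 hab, fun x => ⟨e.inv ≫ x, by simp⟩⟩

lemma univ_eps_PO (V : D) : Univ (SiteCmp.RpushD f) ((eps f).app ((PO O_D).obj V)) := by
  have h1 : Univ (SiteCmp.RpushD f) ((etaNat f).app ((sgl O_D).obj ((PO O_D).obj V))) :=
    bijective_Rpush f V 0
  have h2 := univ_map (univ_map (h1.of_iso ((sglIso O_D).app ((PO O_D).obj V)))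
    (Qh.mapIso ((pullSgl f).app ((PO O_D).obj V)))) ((sglIso O_C).symm.app (f.pull.obj ((PO O_D).obj V)))
  have h3 : (eps f).app ((PO O_D).obj V) = ((((sglIso O_D).app ((PO O_D).obj V)).hom ≫
      (etaNat f).app ((sgl O_D).obj ((PO O_D).obj V))) ≫ (SiteCmp.RpushD f).map
        (Qh.mapIso ((pullSgl f).app ((PO O_D).obj V))).hom) ≫
      (SiteCmp.RpushD f).map ((sglIso O_C).symm.app (f.pull.obj ((PO O_D).obj V))).hom := by
    simp only [eps, NatTrans.comp_app, Category.assoc]
    rfl
  rw [h3]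
  exact h2

/-- Universal property of `eps`. -/
theorem univ_eps (V : D) : Univ (SiteCmp.RpushD f) ((eps f).app (ModSite.freeOn O_D V)) := by
  have h1 := (univ_map (univ_eps_PO f V) ((singleFunctor (ModSite.Mod O_C) 0).mapIso
    (f.pull.mapIso (freeIso O_D V)))).of_iso ((singleFunctor (ModSite.Mod O_D) 0).mapIso (freeIso O_D V)).symm
  have h2 := (eps f).naturality (freeIso O_D V).hom
  have h3 : (eps f).app (ModSite.freeOn O_D V) =
      ((singleFunctor (ModSite.Mod O_D) 0).mapIso (freeIso O_D V)).symm.hom ≫ (eps f).app ((PO O_D).obj V) ≫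
      (SiteCmp.RpushD f).map ((singleFunctor (ModSite.Mod O_C) 0).mapIso
        (f.pull.mapIso (freeIso O_D V))).hom := by
    rw [Iso.symm_hom, Iso.eq_inv_comp]
    exact h2
  rw [h3]
  exact h1

/-- The natural map `j_{V!} O_V ⟶ Rf_* j_{fn V!} O_{fn V}`. -/
def canF (V : D) : SiteCmp.inD O_D (ModSite.freeOn O_D V) ⟶
    (SiteCmp.RpushD f).obj (SiteCmp.inD O_C (ModSite.freeOn O_C (f.fn.obj V))) :=
  (eps f).app (ModSite.freeOn O_D V) ≫ (SiteCmp.RpushD f).map ((singleFunctor (ModSite.Mod O_C) 0).map (pullFree f V))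

theorem univ_canF (V : D) : Univ (SiteCmp.RpushD f) (canF f V) :=
  univ_map (univ_eps f V) ((singleFunctor (ModSite.Mod O_C) 0).mapIso (asIso (pullFree f V)))

/-- `canF` is compatible with multiplication by sections. -/
theorem mul_canF (V : D) (g : O_D.obj.obj (op V)) :
    (singleFunctor (ModSite.Mod O_D) 0).map (K779.Sec.mul O_D V g) ≫ canF f V =
      canF f V ≫ (SiteCmp.RpushD f).map
        ((singleFunctor (ModSite.Mod O_C) 0).map (K779.Sec.mul O_C (f.fn.obj V) (shp f V g))) := by
  have h1 := (eps f).naturality (K779.Sec.mul O_D V g)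
  rw [canF, ← Category.assoc, h1, Category.assoc, Category.assoc, ← Functor.map_comp, ← Functor.map_comp,
    ← pullFree_mul]
  congr 1
  change (SiteCmp.RpushD f).map ((singleFunctor (ModSite.Mod O_C) 0).map (f.pull.map (K779.Sec.mul O_D V g))) ≫ _ = _
  rw [← Functor.map_comp, ← Functor.map_comp]

end Nat

end K579.LerayNat
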