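import Groth.Agent.CohtopB.CoprodTriangle
import Groth.Agent.CohtopB.DCoprod
import Groth.Agent.PerfA.ApproxTower
import Groth.Agent.PerfA.ExactD
import Mathlib.CategoryTheory.Triangulated.Subcategory
import Mathlib.Algebra.Homology.SingleHomology
import Mathlib.CategoryTheory.Abelian.GrothendieckAxioms.Basic

/-!
# A separating family generates the derived category of a Grothendieck abelian category

`of_localizing`: a triangulated subcategory of `D(A)`, closed under isomorphisms and coproducts, which contains the
objects `P i` (in degree `0`) of a small separating family of the Grothendieck abelian category `A`, is all of `D(A)`.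
-/

set_option autoImplicit false
universe w' w t u

open CategoryTheory CategoryTheory.Limits Pretriangulated

namespace K579.LocGen

open Groth.Agent.CohtopB Groth.Agent.PerfA.Hocolim

section Tri

variable {D : Type*} [Category* D] [Preadditive D] [HasZeroObject D] [HasShift D ℤ]
  [∀ n : ℤ, (shiftFunctor D n).Additive] [Pretriangulated D] [IsTriangulated D]
  (L : ObjectProperty D) [L.IsTriangulated] [L.IsClosedUnderIsomorphisms]

/-- Two out of three for morphisms with cone in `L`. -/
theorem trW_of_postcomp {X Y Z : D} (f : X ⟶ Y) (g : Y ⟶ Z) (hg : L.trW g) (hfg : L.trW (f ≫ g)) :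
    L.trW f := by
  obtain ⟨Zf, v₁, w₁, H₁⟩ := distinguished_cocone_triangle f
  obtain ⟨Zg, v₂, w₂, H₂⟩ := distinguished_cocone_triangle g
  obtain ⟨Zh, v₃, w₃, H₃⟩ := distinguished_cocone_triangle (f ≫ g)
  have h := (Triangulated.someOctahedron rfl H₁ H₂ H₃).mem
  have h2 : L Zg := (L.trW_iff_of_distinguished _ H₂).1 hg
  have h3 : L Zh := (L.trW_iff_of_distinguished _ H₃).1 hfg
  exact (L.trW_iff_of_distinguished _ H₁).2 (L.ext_of_isTriangulatedClosed₁ _ h h3 h2)

end Tri

section Single

variable {A : Type*} [Category* A] [Abelian A]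

/-- The morphism of complexes `P[-n] ⟶ K` given by a morphism to the cycles. -/
noncomputable def ofCycles (K : CochainComplex A ℤ) (n : ℤ) {P : A} (x : P ⟶ K.cycles n) :
    (HomologicalComplex.single A (ComplexShape.up ℤ) n).obj P ⟶ K :=
  HomologicalComplex.mkHomFromSingle (x ≫ K.iCycles n) (fun k _ => by simp)

theorem homologyMap_ofCycles (K : CochainComplex A ℤ) (n : ℤ) {P : A} (x : P ⟶ K.cycles n) :
    HomologicalComplex.homologyMap (ofCycles K n x) n =
      (HomologicalComplex.singleObjHomologySelfIso (ComplexShape.up ℤ) n P).hom ≫ x ≫ K.homologyπ n := by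
  have h1 : HomologicalComplex.cyclesMap (ofCycles K n x) n =
      (HomologicalComplex.singleObjCyclesSelfIso (ComplexShape.up ℤ) n P).hom ≫ x := by
    rw [← cancel_mono (K.iCycles n), HomologicalComplex.cyclesMap_i, ofCycles,
      HomologicalComplex.mkHomFromSingle_f, HomologicalComplex.singleObjCyclesSelfIso_hom]
    simp only [Category.assoc]
  rw [← cancel_epi (HomologicalComplex.homologyπ _ n), HomologicalComplex.homologyπ_naturality, h1,
    HomologicalComplex.homologyπ_singleObjHomologySelfIso_hom_assoc, Category.assoc]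

end Single

section Main

variable {A : Type u} [Category.{w} A] [Abelian A] [IsGrothendieckAbelian.{w} A] [HasDerivedCategory.{w'} A]

/-- A small separating family of objects. -/
def Separates {ι : Type t} (P : ι → A) : Prop :=
  ∀ ⦃X Y : A⦄ (f : X ⟶ Y), (∀ (i : ι) (x : P i ⟶ X), x ≫ f = 0) → f = 0

variable (A) in
theorem hasCoproducts : HasCoproducts.{w} (DerivedCategory A) := fun _ =>
  DCoprod.hasCoproductsOfShape_derivedCategory

variable (L : ObjectProperty (DerivedCategory A)) [L.IsTriangulated] [L.IsClosedUnderIsomorphisms]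
  (hL : ∀ (κ : Type w) (K : κ → DerivedCategory A) (c : Cofan K), IsColimit c → (∀ k, L (K k)) → L c.pt)
  {ι : Type w} (P : ι → A) (hP : Separates P)
  (hLP : ∀ i, L ((DerivedCategory.singleFunctor A 0).obj (P i)))

omit [IsGrothendieckAbelian.{w} A] in
include hLP in
theorem prop_single (i : ι) (n : ℤ) : L ((DerivedCategory.singleFunctor A n).obj (P i)) := by
  have e := ((DerivedCategory.singleFunctors A).shiftIso n 0 n (by lia)).app (P i)
  have h := L.prop_of_iso e.symm (hLP i)
  exact (L.prop_shift_iff_of_isStableUnderShift _ n).1 h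

include hL hP hLP in
/-- One step: kill the cohomology by a map with fibre in `L`. -/
theorem exists_step (X : DerivedCategory A) :
    ∃ (X' : DerivedCategory A) (b : X ⟶ X'), L.trW b ∧
      ∀ n : ℤ, (DerivedCategory.homologyFunctor A n).map b = 0 := by
  have := hasCoproducts A
  obtain ⟨K, ⟨e⟩⟩ : ∃ K, Nonempty (DerivedCategory.Q.obj K ≅ X) :=
    ⟨_, ⟨DerivedCategory.Q.objObjPreimageIso X⟩⟩
  let κ := Σ (n : ℤ) (i : ι), (P i ⟶ K.cycles n)
  let E : κ → DerivedCategory A := fun k =>
    DerivedCategory.Q.obj ((HomologicalComplex.single A (ComplexShape.up ℤ) k.1).obj (P k.2.1))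
  have hE : ∀ k, L (E k) := fun k => L.prop_of_iso
    ((DerivedCategory.singleFunctorIsoCompQ A k.1).app (P k.2.1)) (prop_single L P hLP k.2.1 k.1)
  let a : (∐ E) ⟶ X := Sigma.desc (fun k => DerivedCategory.Q.map (ofCycles K k.1 k.2.2) ≫ e.hom)
  obtain ⟨X', b, c, hT⟩ := distinguished_cocone_triangle a
  refine ⟨X', b, ObjectProperty.trW.mk' _ hT (hL κ E _ (coproductIsCoproduct E) hE), fun n => ?_⟩
  have hab : a ≫ b = 0 := comp_distTriang_mor_zero₁₂ _ hT
  have h1 : ∀ (i : ι) (x : P i ⟶ K.cycles n), x ≫ K.homologyπ n ≫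
      (DerivedCategory.homologyFunctorFactors A n).inv.app K ≫
        (DerivedCategory.homologyFunctor A n).map (e.hom ≫ b) = 0 := by
    intro i x
    have h2 : DerivedCategory.Q.map (ofCycles K n x) ≫ e.hom ≫ b = 0 := by
      have h3 : Sigma.ι E ⟨n, i, x⟩ ≫ a = DerivedCategory.Q.map (ofCycles K n x) ≫ e.hom := by
        simp only [a, Sigma.ι_desc]
      rw [← Category.assoc, ← h3, Category.assoc, hab, comp_zero]
    have h3 : (DerivedCategory.homologyFunctor A n).map (DerivedCategory.Q.map (ofCycles K n x)) ≫
        (DerivedCategory.homologyFunctor A n).map (e.hom ≫ b) = 0 := by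
      rw [← Functor.map_comp, h2, Functor.map_zero]
    have h4 := (DerivedCategory.homologyFunctorFactors A n).inv.naturality (ofCycles K n x)
    have h5 : HomologicalComplex.homologyMap (ofCycles K n x) n ≫
        (DerivedCategory.homologyFunctorFactors A n).inv.app K ≫
        (DerivedCategory.homologyFunctor A n).map (e.hom ≫ b) = 0 := by
      have h6 := h4 =≫ (DerivedCategory.homologyFunctor A n).map (e.hom ≫ b)
      simp only [Functor.comp_map, Category.assoc] at h6
      rw [h3, comp_zero] at h6
      exact h6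
    rw [homologyMap_ofCycles] at h5
    rw [← cancel_epi (HomologicalComplex.singleObjHomologySelfIso (ComplexShape.up ℤ) n (P i)).hom, comp_zero]
    simpa only [Category.assoc] using h5
  have h2 : K.homologyπ n ≫
      (DerivedCategory.homologyFunctorFactors A n).inv.app K ≫
        (DerivedCategory.homologyFunctor A n).map (e.hom ≫ b) = 0 := hP _ h1
  have h3 : (DerivedCategory.homologyFunctor A n).map (e.hom ≫ b) = 0 := by
    rw [← cancel_epi ((DerivedCategory.homologyFunctorFactors A n).inv.app K), comp_zero]
    exact (cancel_epi (K.homologyπ n)).1 (h2.trans comp_zero.symm)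
  rw [Functor.map_comp] at h3
  rw [← cancel_epi ((DerivedCategory.homologyFunctor A n).map e.hom), comp_zero, h3]

include hL hP hLP in
/-- `A` Grothendieck abelian, `P i` a small separating family, `L` a triangulated subcategory of `D(A)` closed under
isomorphisms and coproducts and containing all `P i`: then `L` is everything. -/
theorem of_localizing (X : DerivedCategory A) : L X := by
  have := hasCoproducts A
  have hcN : HasCoproductsOfShape ℕ (DerivedCategory A) :=
    hasColimitsOfShape_of_equivalence (Discrete.equivalence Equiv.ulift.{w, 0})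
  choose nxt b hb hb0 using exists_step L hL P hP hLP
  let st : ℕ → DerivedCategory A := fun n => Nat.rec X (fun _ Y => nxt Y) n
  let j : ∀ n, X ⟶ st n := fun n => Nat.rec (𝟙 X) (fun n f => f ≫ b (st n)) n
  have hj : ∀ n, L.trW (j n) := by
    intro n
    induction n with
    | zero => exact L.trW.id_mem X
    | succ n ih => exact L.trW.comp_mem _ _ ih (hb _)
  -- the map between the direct sums
  let β : (∐ fun _ : ℕ => X) ⟶ ∐ st := Limits.Sigma.map j
  have hβ : L.trW β := by
    choose T x y hT hLT using fun n => (L.trW_iff' (j n)).1 (hj n)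
    have h1 := CoprodTriangle.coproductTriangle_distinguished
      (fun n => Triangle.mk (x n) (j n) (y n)) hT
    refine (L.trW_iff_of_distinguished' _ h1).2 ?_
    let c : Cofan (fun k : ULift.{w} ℕ => T k.down) := Cofan.mk (∐ T) (fun k => Sigma.ι T k.down)
    have hc : IsColimit c := Cofan.IsColimit.mk c
      (fun s => Sigma.desc (f := T) (fun n => s.inj ⟨n⟩))
      (fun s k => by
        change Sigma.ι T k.down ≫ Sigma.desc (f := T) (fun n => s.inj ⟨n⟩) = _
        rw [Sigma.ι_desc]) (fun s m hm => by
        refine Limits.Sigma.hom_ext (f := T) _ _ fun n => ?_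
        rw [Sigma.ι_desc]
        exact hm ⟨n⟩)
    exact hL (ULift.{w} ℕ) (fun k => T k.down) c hc (fun k => hLT k.down)
  let S : (∐ st) ⟶ ∐ st := 𝟙 _ - DerLim.shiftMap st (fun n => b (st n))
  let S₀ : (∐ fun _ : ℕ => X) ⟶ ∐ fun _ : ℕ => X := 𝟙 _ - DerLim.shiftMap (fun _ => X) (fun _ => 𝟙 X)
  have hS : IsIso S := by
    rw [DerivedCategory.isIso_iff]
    intro n
    have := DCoprod.preservesColimitsOfShape_homologyFunctor_derivedCategory (A := A) (ι := ℕ) n
    have h0 : (DerivedCategory.homologyFunctor A n).map
        (DerLim.shiftMap st (fun n => b (st n))) = 0 := by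
      refine (isColimitOfPreserves (DerivedCategory.homologyFunctor A n)
        (coproductIsCoproduct st)).hom_ext fun ⟨k⟩ => ?_
      change (DerivedCategory.homologyFunctor A n).map (Sigma.ι st k) ≫ _ = _
      rw [← Functor.map_comp, DerLim.shiftMap, Sigma.ι_desc, Functor.map_comp, hb0, zero_comp, comp_zero]
    rw [Functor.map_sub, h0, sub_zero, CategoryTheory.Functor.map_id]
    infer_instance
  have hcomm : S₀ ≫ β = β ≫ S := by
    refine Limits.Sigma.hom_ext _ _ fun n => ?_
    simp only [S₀, S, β, Preadditive.sub_comp, Preadditive.comp_sub, Category.id_comp, Category.comp_id,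
      DerLim.shiftMap, Sigma.ι_desc_assoc, Limits.Sigma.ι_map, Limits.Sigma.ι_map_assoc, Sigma.ι_desc]
    rw [← Category.assoc (j n) (b (st n))]
  have hS₀ : L.trW S₀ := by
    refine trW_of_postcomp L S₀ β hβ ?_
    rw [hcomm]
    exact L.trW.comp_mem _ _ hβ (L.trW_of_isIso S)
  have := fun m : ℤ => DCoprod.preservesColimitsOfShape_homologyFunctor_derivedCategory (A := A) (ι := ℕ) m
  have : AB5OfSize.{0, 0} A := AB5OfSize_of_univLE.{0, 0, w, w} A
  have : HasExactColimitsOfShape ℕ A := AB5OfSize.ofShape ℕ
  obtain ⟨c, hc⟩ := Groth.Agent.PerfA.ApproxTower.isHocolim_of_eventually_isIso ((Functor.const ℕ).obj X)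
    (K := X) (fun _ => 𝟙 X) (fun n => by simp) (fun m => ⟨0, fun n _ =>
      inferInstanceAs (IsIso ((DerivedCategory.homologyFunctor A m).map (𝟙 X)))⟩)
  exact (L.trW_iff_of_distinguished _ hc).1 hS₀

end Main

end K579.LocGen
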