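import Groth.Agent.FibSite.K780.MorSite
import Groth.Prelude.Def_DerComp
import Mathlib.CategoryTheory.Sites.Over

/-!
# Localisation of a morphism of ringed sites

For `f : (C, O_C) → (D, O_D)` with underlying functor `u : D ⥤ C` and `V : D`, the functor `D/V ⥤ C/uV` defines a morphism of
ringed sites `overMor f V : (C/uV, O_C) → (D/V, O_D)`.
-/

set_option autoImplicit false

universe v₁ v₂ u₁ u₂ u

open CategoryTheory CategoryTheory.Limits Opposite

namespace K579.OverMor

open K780.CovFlat K780.MorSite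

section CF

variable {C : Type u₁} [Category.{v₁} C] {D : Type u₂} [Category.{v₂} D] {G : C ⥤ D}
    {K : GrothendieckTopology D}

lemma loc_over {X : D} {d : Over X} {φ : ∀ ⦃d' : D⦄, (d' ⟶ d.left) → Prop} {ψ : ∀ ⦃d' : Over X⦄, (d' ⟶ d) → Prop}
    (h : Loc K d.left φ) (hφ : ∀ (d' : Over X) (f : d' ⟶ d), φ f.left → ψ f) : Loc (K.over X) d ψ := by
  obtain ⟨S, hS, h⟩ := h
  refine ⟨(Sieve.overEquiv d).symm S, K.overEquiv_symm_mem_over _ _ hS, fun d' f hf => ?_⟩
  exact hφ d' f (h f.left ((Sieve.overEquiv_symm_iff S f).1 hf))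

/-- The localisation of a covering flat functor is covering flat. -/
theorem isCF_post (h : IsCF G K) (V : C) : IsCF (Over.post G : Over V ⥤ Over (G.obj V)) (K.over (G.obj V)) where
  term d := Loc.of_forall fun d' _ => ⟨Over.mk (𝟙 V), ⟨Over.homMk d'.hom
    (by change d'.hom ≫ G.map (𝟙 V) = d'.hom; rw [G.map_id, Category.comp_id])⟩⟩
  prod d c₁ c₂ x₁ x₂ := by
    refine loc_over (h.span d.left c₁.hom c₂.hom x₁.left x₂.left ?_) ?_
    · have h1 := Over.w x₁
      have h2 := Over.w x₂
      exact h1.trans h2.symm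
    · rintro d' f ⟨c, h₁, h₂, y, e₁, e₂, e₃⟩
      have h1 := Over.w x₁
      refine ⟨Over.mk (h₁ ≫ c₁.hom), Over.homMk h₁, Over.homMk h₂ e₃.symm, Over.homMk y ?_, ?_, ?_⟩
      · change y ≫ G.map (h₁ ≫ c₁.hom) = d'.hom
        rw [G.map_comp, ← Category.assoc, e₁, Category.assoc]
        exact (congrArg (fun t => f.left ≫ t) h1).trans (Over.w f)
      · exact Over.OverMorphism.ext e₁
      · exact Over.OverMorphism.ext e₂
  eq d c c' s t x e := by
    refine loc_over (h.eq d.left c.left c'.left s.left t.left x.left (congrArg CommaMorphism.left e)) ?_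
    rintro d' f ⟨c₀, g, y, e₁, e₂⟩
    have h1 := Over.w x
    refine ⟨Over.mk (g ≫ c.hom), Over.homMk g, Over.homMk y ?_, ?_, ?_⟩
    · change y ≫ G.map (g ≫ c.hom) = d'.hom
      rw [G.map_comp, ← Category.assoc, e₂, Category.assoc]
      exact (congrArg (fun t => f.left ≫ t) h1).trans (Over.w f)
    · exact Over.OverMorphism.ext e₁
    · exact Over.OverMorphism.ext e₂

end CF

variable {C D : Type u} [SmallCategory C] [SmallCategory D] {J : GrothendieckTopology C} {K : GrothendieckTopology D}
  {O_C : Sheaf J CommRingCat.{u}} {O_D : Sheaf K CommRingCat.{u}} (f : ModSite.RMor O_C O_D) (V : D)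

theorem isCF : IsCF f.fn J :=
  isCF_of_preservesFiniteLimits (J := K) f.exact

theorem coverPreserving : CoverPreserving K J f.fn := CoverPreserving.of_isContinuous _ _ _

instance isContinuous_post : (Over.post f.fn : Over V ⥤ Over (f.fn.obj V)).IsContinuous (K.over V) (J.over (f.fn.obj V)) :=
  (isCF_post (isCF f) V).isContinuous ((coverPreserving f).overPost V)

/-- The localisation of a morphism of ringed sites. -/
noncomputable def overMor : ModSite.RMor (O_C.over (f.fn.obj V)) (O_D.over V) where
  fn := Over.post f.fn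
  isContinuous := isContinuous_post f V
  exact := preservesFiniteLimits_of_isCF (isCF_post (isCF f) V)
  sharp := ⟨Functor.whiskerLeft (Over.forget V).op f.sharp.hom⟩

end K579.OverMor
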