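import Groth.Agent.DerComp.K579.OverMor
import Groth.Agent.DerComp.K579.LOLocal
import Groth.Agent.DerComp.K779.Tri2
import Groth.Agent.S0481

/-!
# Restriction of the derived direct image

`(Rf_* T)|_V ≅ R(f/V)_* (T|_{uV})` and linearity of `Rf_*` with respect to global sections.
-/

set_option autoImplicit false

universe v₁ v₂ u₁ u₂ u

open CategoryTheory CategoryTheory.Limits Opposite Pretriangulated

attribute [local instance] HasDerivedCategory.standard

namespace K579.OverPush

open K579.OverMor K578.Der K780.Res K780.Away K779.Tri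

attribute [local instance] preservesFiniteLimits_extZero preservesFiniteColimits_extZero

variable {C D : Type u} [SmallCategory C] [SmallCategory D] {J : GrothendieckTopology C} {K : GrothendieckTopology D}
  {O_C : Sheaf J CommRingCat.{u}} {O_D : Sheaf K CommRingCat.{u}} (f : ModSite.RMor O_C O_D)

section Restr

variable (V : D)

/-- `(f_* M)|_V = (f/V)_* (M|_{uV})`. -/
noncomputable def pushRestr : f.push ⋙ ModSite.restr O_D V ≅ ModSite.restr O_C (f.fn.obj V) ⋙ (overMor f V).push :=
  Iso.refl _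

theorem isKInjective_restr (U : C) (I : CochainComplex (ModSite.Mod O_C) ℤ) (hI : I.IsKInjective) :
    CochainComplex.IsKInjective (((ModSite.restr O_C U).mapHomologicalComplex (ComplexShape.up ℤ)).obj I) :=
  Groth.Agent.S0481.result _ _ (ModSite.extZeroAdj O_C U) I hI

theorem exists_kinj (T : DerivedCategory (ModSite.Mod O_C)) :
    ∃ I : CochainComplex (ModSite.Mod O_C) ℤ, I.IsKInjective ∧ Nonempty (T ≅ DerivedCategory.Q.obj I) := by
  obtain ⟨I, g, hI, hg⟩ := hasKInj O_C (DerivedCategory.Q.objPreimage T)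
  exact ⟨I, hI, ⟨(DerivedCategory.Q.objObjPreimageIso T).symm ≪≫ asIso (DerivedCategory.Q.map g)⟩⟩

/-- `(Rf_* T)|_V ≅ R(f/V)_* (T|_{uV})`. -/
theorem nonempty_rpush_restr [SiteCmp.HasRpushD f] [SiteCmp.HasRpushD (overMor f V)]
    (T : DerivedCategory (ModSite.Mod O_C)) :
    Nonempty ((resD O_D V).obj ((SiteCmp.RpushD f).obj T) ≅
      (SiteCmp.RpushD (overMor f V)).obj ((resD O_C (f.fn.obj V)).obj T)) := by
  obtain ⟨I, hI, ⟨e⟩⟩ := exists_kinj T
  let I' := ((ModSite.restr O_C (f.fn.obj V)).mapHomologicalComplex (ComplexShape.up ℤ)).obj I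
  have hI' : CochainComplex.IsKInjective I' := isKInjective_restr (f.fn.obj V) I hI
  have e1 : (SiteCmp.RpushD f).obj T ≅ DerivedCategory.Q.obj ((f.push.mapHomologicalComplex (ComplexShape.up ℤ)).obj I) :=
    (SiteCmp.RpushD f).mapIso e ≪≫ rpushIso f I hI
  have e2 : (resD O_D V).obj ((SiteCmp.RpushD f).obj T) ≅ DerivedCategory.Q.obj
      (((ModSite.restr O_D V).mapHomologicalComplex (ComplexShape.up ℤ)).obj
        ((f.push.mapHomologicalComplex (ComplexShape.up ℤ)).obj I)) :=
    (resD O_D V).mapIso e1 ≪≫ (ModSite.restr O_D V).mapDerivedCategoryFactors.app _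
  have e3 : (resD O_C (f.fn.obj V)).obj T ≅ DerivedCategory.Q.obj I' :=
    (resD O_C (f.fn.obj V)).mapIso e ≪≫ (ModSite.restr O_C (f.fn.obj V)).mapDerivedCategoryFactors.app _
  have e4 : (SiteCmp.RpushD (overMor f V)).obj ((resD O_C (f.fn.obj V)).obj T) ≅
      DerivedCategory.Q.obj (((overMor f V).push.mapHomologicalComplex (ComplexShape.up ℤ)).obj I') :=
    (SiteCmp.RpushD (overMor f V)).mapIso e3 ≪≫ rpushIso (overMor f V) I' hI'
  exact ⟨e2 ≪≫ e4.symm⟩

end Restr

section Lin

variable {a : DerComp.GSec O_D} {b : DerComp.GSec O_C}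

/-- The sections `a` and `b` correspond to each other under `f♯`. -/
def Rel (a : DerComp.GSec O_D) (b : DerComp.GSec O_C) : Prop :=
  ∀ W : D, (show O_C.obj.obj (op (f.fn.obj W)) from (f.sharp.hom.app (op W)).hom (a.1 W)) = b.1 (f.fn.obj W)

variable {f}

lemma push_smulEnd (h : Rel f a b) (M : ModSite.Mod O_C) :
    f.push.map (DerComp.smulEnd b M) = DerComp.smulEnd a (f.push.obj M) := by
  ext W x
  change (show O_C.obj.obj (op (f.fn.obj W.unop)) from b.1 (f.fn.obj W.unop)) • (show M.val.obj (op (f.fn.obj W.unop)) from x) =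
    (show O_C.obj.obj (op (f.fn.obj W.unop)) from (f.sharp.hom.app (op W.unop)).hom (a.1 W.unop)) •
      (show M.val.obj (op (f.fn.obj W.unop)) from x)
  rw [h W.unop]

lemma push_smul (h : Rel f a b) (M : ModSite.Mod O_C) : f.push.map (b • 𝟙 M) = a • 𝟙 (f.push.obj M) := by
  rw [DerComp.smul_def, DerComp.smul_def, Category.comp_id, Category.comp_id, push_smulEnd h]

lemma pushCx_smul (h : Rel f a b) (I : CochainComplex (ModSite.Mod O_C) ℤ) :
    (f.push.mapHomologicalComplex (ComplexShape.up ℤ)).map (b • 𝟙 I) =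
      a • 𝟙 ((f.push.mapHomologicalComplex (ComplexShape.up ℤ)).obj I) := by
  ext n : 1
  exact push_smul h (I.X n)

variable [SiteCmp.HasRpushD f]

theorem rpush_smul_Q (h : Rel f a b) (I : CochainComplex (ModSite.Mod O_C) ℤ) (hI : I.IsKInjective) :
    (SiteCmp.RpushD f).map (b • 𝟙 (DerivedCategory.Q.obj I)) =
      a • 𝟙 ((SiteCmp.RpushD f).obj (DerivedCategory.Q.obj I)) := by
  have := isIso_rpushUnitQ_app f I hI
  have h1 : b • 𝟙 (DerivedCategory.Q.obj I) = DerivedCategory.Q.map (b • 𝟙 I) := by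
    rw [Functor.map_smul, CategoryTheory.Functor.map_id]
  have h2 := (rpushUnitQ f).naturality (b • 𝟙 I)
  rw [h1, ← cancel_epi ((rpushUnitQ f).app I)]
  refine h2.symm.trans ?_
  change DerivedCategory.Q.map ((f.push.mapHomologicalComplex (ComplexShape.up ℤ)).map (b • 𝟙 I)) ≫ _ = _
  rw [pushCx_smul h, Functor.map_smul, CategoryTheory.Functor.map_id, Linear.smul_comp, Linear.comp_smul]
  rw [Category.id_comp]
  exact congrArg (fun t => a • t) (Category.comp_id _).symm

/-- `Rf_*` is linear with respect to global sections. -/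
theorem rpush_smul (h : Rel f a b) (X : DerivedCategory (ModSite.Mod O_C)) :
    (SiteCmp.RpushD f).map (b • 𝟙 X) = a • 𝟙 ((SiteCmp.RpushD f).obj X) := by
  obtain ⟨I, hI, ⟨e⟩⟩ := exists_kinj X
  have h1 : b • 𝟙 X = e.hom ≫ (b • 𝟙 (DerivedCategory.Q.obj I)) ≫ e.inv := by
    rw [Linear.smul_comp, Linear.comp_smul, Category.id_comp, Iso.hom_inv_id]
  rw [h1, Functor.map_comp, Functor.map_comp, rpush_smul_Q h I hI, Linear.smul_comp, Linear.comp_smul,
    Category.id_comp, ← Functor.map_comp, Iso.hom_inv_id, CategoryTheory.Functor.map_id]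

theorem div_rpush (h : Rel f a b) {X : DerivedCategory (ModSite.Mod O_C)} (hX : Div b X) :
    Div a ((SiteCmp.RpushD f).obj X) := by
  have h1 : IsIso (b • 𝟙 X) := hX
  change IsIso (a • 𝟙 ((SiteCmp.RpushD f).obj X))
  rw [← rpush_smul h]
  infer_instance

/-- `Rf_*` of an object finitely built from divisible objects. -/
theorem dg_rpush {ι : Type*} {b : ι → DerComp.GSec O_C} {a : ι → DerComp.GSec O_D} (h : ∀ i, Rel f (a i) (b i))
    {X : DerivedCategory (ModSite.Mod O_C)} (hX : DG (Set.range b) X) :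
    DG (Set.range a) ((SiteCmp.RpushD f).obj X) := by
  let := rpushCommShift f
  have := rpush_isTriangulated f
  induction hX with
  | zero X h0 => exact DG.zero _ (Functor.map_isZero _ h0)
  | div X s hs h0 =>
    obtain ⟨i, rfl⟩ := hs
    exact DG.div _ (a i) ⟨i, rfl⟩ (div_rpush (h i) h0)
  | ext T hT h1 h3 ih1 ih3 => exact DG.ext _ ((SiteCmp.RpushD f).map_distinguished T hT) ih1 ih3

end Lin

end K579.OverPush
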