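import Groth.Agent.DerComp.K579.ElRestr
import Groth.Agent.DerComp.K780.Res
import Groth.Agent.DerComp.K779.Compl
import Mathlib.CategoryTheory.Adjunction.AdjointFunctorTheorems

/-!
# Restriction preserves the left orthogonal of the derived complete objects

`tors_res`: if `T ∈ D(O)` is left orthogonal to the `I`-complete objects then `T|_V` is left orthogonal to the `I|_V`-complete
objects, for every object `V` and every sheaf of ideals `I`.
-/

set_option autoImplicit false

universe v v' w w' u u₁ u₂

open CategoryTheory CategoryTheory.Limits Opposite Pretriangulated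

attribute [local instance] HasDerivedCategory.standard

namespace K579.ResLO

open K780.ShiftAlg K780.Tele K780.Away K780.Glob K780.Res K579.ElShriek K579.ElMod K579.ElShNat K579.ElRestr
  K579.ElCompl

section SAFT

variable {A : Type u₁} [Category.{v} A] [Abelian A] [IsGrothendieckAbelian.{v} A] {B : Type u₂} [Category.{v} B]

/-- Colimit-preserving functors out of a Grothendieck abelian category are left adjoints. -/
theorem isLeftAdjoint_of_preservesColimits (F : A ⥤ B) [PreservesColimitsOfSize.{v, v} F] : F.IsLeftAdjoint := by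
  have h : ObjectProperty.IsSeparating (ObjectProperty.singleton (separator A)) := isSeparator_separator A
  exact isLeftAdjoint_of_preservesColimits_of_isSeparating h F

end SAFT

section Adj

variable {C : Type u} [SmallCategory C] {J : GrothendieckTopology C} (O : Sheaf J CommRingCat.{u}) (V : C)

theorem isLeftAdjoint_restr : (ModSite.restr O V).IsLeftAdjoint :=
  haveI := K578.Der.isGrothendieckAbelian O
  isLeftAdjoint_of_preservesColimits (ModSite.restr O V)

/-- Derived restriction has a right adjoint. -/
theorem isLeftAdjoint_resD : (resD O V).IsLeftAdjoint := by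
  obtain ⟨R, ⟨adj⟩⟩ := isLeftAdjoint_restr O V
  have : R.Additive := adj.right_adjoint_additive
  exact isLeftAdjoint_mapDerivedCategory adj (K578.Der.hasKInj (O.over V))

end Adj

section Tel

variable {C : Type u} [SmallCategory C] {J : GrothendieckTopology C} {O : Sheaf J CommRingCat.{u}}
  {D : Type u} [SmallCategory D] {K : GrothendieckTopology D} {O' : Sheaf K CommRingCat.{u}}
  (G : ModSite.Mod O ⥤ ModSite.Mod O') [G.Additive] [PreservesFiniteLimits G] [PreservesFiniteColimits G]
  [PreservesColimitsOfShape (Discrete ℕ) G]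

/-- All morphisms `G(F_s) → K[n]` vanish iff `Hom(G(F), K[n])` is complete with respect to `G(s)`, for all `n`. -/
theorem subsingleton_iff_cmpl_of_exact (s : DerComp.GSec O) (F : ModSite.Mod O)
    (K : DerivedCategory (ModSite.Mod O')) :
    (∀ n : ℤ, Subsingleton (SiteCmp.inD O' (G.obj (DerComp.locAway s F)) ⟶ K⟦n⟧)) ↔
      ∀ n : ℤ, Cmpl (pre ((DerivedCategory.singleFunctor (ModSite.Mod O') 0).map (G.map (DerComp.smulEnd s F)))
        (K⟦n⟧)) := by
  have hG := K578.Der.isGrothendieckAbelian O'
  have h1 := exact_discrete_nat (ModSite.Mod O')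
  have ht := ((shortExact_sc O s F).map_of_exact G).singleTriangle_distinguished
  refine (subsingleton_iff_bijective ht K).trans (forall_congr' fun n => ?_)
  have h2 : PreservesColimitsOfShape (Discrete ℕ) (DerivedCategory.singleFunctor (ModSite.Mod O') 0) :=
    Groth.Agent.CohtopB.DCoprod.preservesColimitsOfShape_singleFunctor 0
  have h4 : PreservesColimitsOfShape (Discrete ℕ)
      (G ⋙ DerivedCategory.singleFunctor (ModSite.Mod O') 0) := inferInstance
  have hc := (isColimitMapCoconeCofanMkEquiv _ _ _)
    (isColimitOfPreserves (G ⋙ DerivedCategory.singleFunctor (ModSite.Mod O') 0)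
      (coproductIsCoproduct (fun _ : ℕ => F)))
  refine bijective_iff_cmpl hc ((DerivedCategory.singleFunctor (ModSite.Mod O') 0).map (G.map (DerComp.smulEnd s F)))
    _ (fun k => ?_) (K⟦n⟧)
  change (G ⋙ DerivedCategory.singleFunctor (ModSite.Mod O') 0).map (Sigma.ι (fun _ : ℕ => F) k) ≫
    (G ⋙ DerivedCategory.singleFunctor (ModSite.Mod O') 0).map (DerComp.awayMap s F) =
    (G ⋙ DerivedCategory.singleFunctor (ModSite.Mod O') 0).map (Sigma.ι (fun _ : ℕ => F) k) -
    (G ⋙ DerivedCategory.singleFunctor (ModSite.Mod O') 0).map (DerComp.smulEnd s F) ≫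
      (G ⋙ DerivedCategory.singleFunctor (ModSite.Mod O') 0).map (Sigma.ι (fun _ : ℕ => F) (k + 1))
  rw [← Functor.map_comp, ← Functor.map_comp, ← Functor.map_sub]
  congr 1
  simp [DerComp.awayMap]

end Tel

section Star

variable {C : Type u} [SmallCategory C] {J : GrothendieckTopology C} (O : Sheaf J CommRingCat.{u}) (V W : C)

/-- The pullback of a section of `O_W` to the category of spans over `V` and `W`. -/
def ρS (s : DerComp.GSec (O.over W)) : DerComp.GSec (OEl (O.over V) (FVW V W)) :=
  ⟨fun e => s.1 ((ρ V W).obj e), fun _ _ g => s.2 ((ρ V W).map g)⟩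

lemma ρM_smulEnd (s : DerComp.GSec (O.over W)) (M : ModSite.Mod (O.over W)) :
    (ρM O V W).map (DerComp.smulEnd s M) = DerComp.smulEnd (ρS O V W s) ((ρM O V W).obj M) := rfl

theorem cmpl_restrExt (s : DerComp.GSec (O.over W)) (Z : DerivedCategory (ModSite.Mod (O.over V)))
    (hZ : ∀ (e : El (FVW V W)) (n : ℤ), Cmpl (pre (mulP (O.over V) e.base ((ρS O V W s).1 e)) (Z⟦n⟧)))
    (M : ModSite.Mod (O.over W)) (n : ℤ) :
    Cmpl (pre ((DerivedCategory.singleFunctor (ModSite.Mod (O.over V)) 0).map
      ((ModSite.restr O V).map ((ModSite.extZero O W).map (DerComp.smulEnd s M)))) (Z⟦n⟧)) := by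
  have h1 := cmpl_Θ (O.over V) (FVW V W) (ρS O V W s) Z hZ n ((ρM O V W).obj M)
  have h2 := (restrExt O V W).hom.naturality (DerComp.smulEnd s M)
  refine cmpl_pre_conj ((DerivedCategory.singleFunctor (ModSite.Mod (O.over V)) 0).mapIso ((restrExt O V W).app M))
    _ _ ?_ h1
  rw [Functor.mapIso_hom, ← Functor.map_comp, ← Functor.map_comp]
  exact congrArg _ h2

/-- **The restriction of a generator of the torsion part is torsion.** -/
theorem subsingleton_star (I : DerComp.IdealSh O) {Z : DerivedCategory (ModSite.Mod (O.over V))}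
    (hZ : DerComp.IsDerComp (O.over V) (I.over V) Z) (f : O.obj.obj (op W)) (hf : f ∈ I.ideal W) (n : ℤ) :
    Subsingleton (SiteCmp.inD (O.over V) ((ModSite.restr O V).obj ((ModSite.extZero O W).obj
      (DerComp.awayOver O W f))) ⟶ Z⟦n⟧) := by
  have h1 := preservesFiniteLimits_extZero O W
  have h2 := preservesFiniteColimits_extZero O W
  have h3 : PreservesColimitsOfShape (Discrete ℕ) (ModSite.extZero O W) :=
    (ModSite.extZeroAdj O W).leftAdjoint_preservesColimits.preservesColimitsOfShape
  have h4' : PreservesColimitsOfSize.{0, 0} (ModSite.restr O V) :=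
    preservesColimitsOfSize_shrink.{0, u, 0, u} (ModSite.restr O V)
  have h4 : PreservesColimitsOfShape (Discrete ℕ) (ModSite.restr O V) := inferInstance
  have h5 : (ModSite.extZero O W ⋙ ModSite.restr O V).Additive := inferInstance
  refine (subsingleton_iff_cmpl_of_exact (ModSite.extZero O W ⋙ ModSite.restr O V)
    (DerComp.GSec.ofSect O W f) (ModSite.unit (O.over W)) Z).2 (fun m => ?_) n
  refine cmpl_restrExt O V W (DerComp.GSec.ofSect O W f) Z (fun e k => ?_) (ModSite.unit (O.over W)) m
  refine (van_iff (O.over V) Z e.base _).1 (hZ e.base _ ?_) k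
  exact I.map_mem (show e.base.left ⟶ W from e.elt) hf

end Star

section AdjShift

variable {T : Type u₁} [Category.{v} T] {T' : Type u₂} [Category.{v'} T'] [HasShift T ℤ] [HasShift T' ℤ]
  {L : T ⥤ T'} {R : T' ⥤ T} [L.CommShift ℤ]

theorem subsingleton_adj_shift (adj : L ⊣ R) (X : T) (Z : T') (n : ℤ) :
    Subsingleton (L.obj X ⟶ Z⟦n⟧) ↔ Subsingleton (X ⟶ (R.obj Z)⟦n⟧) := by
  let := adj.rightAdjointCommShift ℤ
  have e1 : (L.obj X ⟶ Z⟦n⟧) ≃ (X ⟶ R.obj (Z⟦n⟧)) := adj.homEquiv _ _
  have e2 : (X ⟶ R.obj (Z⟦n⟧)) ≃ (X ⟶ (R.obj Z)⟦n⟧) :=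
    { toFun := fun x => x ≫ (R.commShiftIso n).hom.app Z
      invFun := fun x => x ≫ (R.commShiftIso n).inv.app Z
      left_inv := fun x => by simp
      right_inv := fun x => by simp }
  exact (e1.trans e2).subsingleton_congr

theorem subsingleton_iso_left {T : Type u₁} [Category.{v} T] {X X' Y : T} (e : X ≅ X')
    (h : Subsingleton (X' ⟶ Y)) : Subsingleton (X ⟶ Y) :=
  ⟨fun a b => by
    rw [← cancel_epi e.inv]
    exact h.elim _ _⟩

end AdjShift

section Alpha

variable {C : Type u} [SmallCategory C] {J : GrothendieckTopology C} {O : Sheaf J CommRingCat.{u}}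

/-- The right adjoint of the derived restriction preserves derived complete objects. -/
theorem isDerComp_rightAdjoint (V : C) (I : DerComp.IdealSh O)
    {R : DerivedCategory (ModSite.Mod (O.over V)) ⥤ DerivedCategory (ModSite.Mod O)} (adj : resD O V ⊣ R)
    {Z : DerivedCategory (ModSite.Mod (O.over V))}
    (hZ : DerComp.IsDerComp (O.over V) (I.over V) Z) : DerComp.IsDerComp O I (R.obj Z) := by
  intro W f hf n
  rw [← subsingleton_adj_shift adj]
  exact subsingleton_iso_left (((ModSite.restr O V).mapDerivedCategorySingleFunctor 0).app _)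
    (subsingleton_star O V W I hZ f hf n)

/-- **Restriction preserves the left orthogonal of the derived complete objects.** -/
theorem tors_res (V : C) (I : DerComp.IdealSh O) {T : DerivedCategory (ModSite.Mod O)} (hT : K779.Compl.Tors O I T) :
    K779.Compl.Tors (O.over V) (I.over V) ((resD O V).obj T) := by
  obtain ⟨R, ⟨adj⟩⟩ := isLeftAdjoint_resD O V
  intro Z hZ n
  rw [subsingleton_adj_shift adj]
  exact hT _ (isDerComp_rightAdjoint V I adj hZ) n

end Alpha

end K579.ResLO
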