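import Groth.Agent.DerComp.K579.LocGen
import Groth.Agent.DerComp.K579.PartialTri
import Groth.Agent.SiteCmp.K579.RpushProd

/-!
# `Rf_*` on modules on ringed sites has a left adjoint

* `of_localizing_mod`: a triangulated subcategory of `D(O)` closed under isomorphisms and coproducts and containing the
  free modules `j_{U!} O_U` is everything.
* `isRightAdjoint_RpushD`: the unbounded `Rf_* : D(O_C) ⥤ D(O_D)` of a morphism of ringed sites is a right adjoint.
-/

set_option autoImplicit false
universe w' w'' u

open CategoryTheory CategoryTheory.Limits Opposite DerivedCategory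

attribute [local instance] HasDerivedCategory.standard

noncomputable section
namespace K579.RpushAdj

open K578.ModTest K578.Der K578.PushComp K579.GoodObj K579.LerayUnb Groth.Agent.CohtopB K579.RpushProd
  K579.LocGen K579.PartialTri

theorem separates {A : Type*} [Category* A] [Abelian A] {C : Type*} [Category* C] {J : GrothendieckTopology C}
    {P : C ⥤ A} (hP : TestSystem J P) (h : ∀ X : A, HasCoproduct (fun i : (Σ U : C, (P.obj U ⟶ X)) => P.obj i.1)) :
    Separates P.obj := by
  intro X Y f hf
  have := h X
  have hc := coproductIsCoproduct (fun i : (Σ U : C, (P.obj U ⟶ X)) => P.obj i.1)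
  have := epi_desc hP X _ hc
  rw [← cancel_epi (Cofan.IsColimit.desc hc (fun i : (Σ U : C, (P.obj U ⟶ X)) => i.2)), comp_zero]
  refine Cofan.IsColimit.hom_ext hc _ _ fun i => ?_
  rw [Cofan.IsColimit.fac_assoc, hf, comp_zero]

section

variable {C : Type u} [SmallCategory C] {J : GrothendieckTopology C} (O : Sheaf J CommRingCat.{u})

theorem of_localizing_mod (L : ObjectProperty (DerivedCategory (ModSite.Mod O))) [L.IsTriangulated]
    [L.IsClosedUnderIsomorphisms]
    (hL : ∀ (κ : Type u) (K : κ → DerivedCategory (ModSite.Mod O)) (c : Cofan K), IsColimit c →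
      (∀ k, L (K k)) → L c.pt)
    (h : ∀ U : C, L ((singleFunctor (ModSite.Mod O) 0).obj ((PO O).obj U))) (X : DerivedCategory (ModSite.Mod O)) :
    L X := by
  have := isGrothendieckAbelian O
  exact of_localizing L hL (PO O).obj (separates (testSystem (ModSite.ringSh O)) (fun X => inferInstance)) h X

end

variable {C : Type u} [SmallCategory C] {J : GrothendieckTopology C} {O_C : Sheaf J CommRingCat.{u}}
    {D : Type u} [SmallCategory D] {K : GrothendieckTopology D} {O_D : Sheaf K CommRingCat.{u}}
    (f : ModSite.RMor O_C O_D) [SiteCmp.HasRpushD f]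

/-- `Rf_*` commutes with shifts. -/
@[instance_reducible]
def rpushCommShift : (SiteCmp.RpushD f).CommShift ℤ :=
  Groth.Agent.Dcoh.DerHo.commShift (hasKInj O_C) (SiteCmp.RpushD f) (rpushUnit f)

/-- `Rf_*` is a triangulated functor. -/
theorem rpush_isTriangulated :
    letI := rpushCommShift f
    (SiteCmp.RpushD f).IsTriangulated :=
  Groth.Agent.Dcoh.DerHo.isTriangulated (hasKInj O_C) (SiteCmp.RpushD f) (rpushUnit f)

theorem lft_free (V : D) : Lft (SiteCmp.RpushD f) ((singleFunctor (ModSite.Mod O_D) 0).obj ((PO O_D).obj V)) := by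
  have h : Lft (SiteCmp.RpushD f) (Qh.obj (sg (O_D := O_D) V 0)) := ⟨_, _, bijective_Rpush f V 0⟩
  exact (Lft (SiteCmp.RpushD f)).prop_of_iso
    ((singleFunctorIsoCompQ (ModSite.Mod O_D) 0).app ((PO O_D).obj V)).symm h

/-- The unbounded `Rf_*` has a left adjoint. -/
theorem isRightAdjoint_RpushD : (SiteCmp.RpushD f).IsRightAdjoint := by
  letI := rpushCommShift f
  haveI := rpush_isTriangulated f
  haveI := isGrothendieckAbelian O_C
  haveI := hasCoproducts (ModSite.Mod O_C)
  refine isRightAdjoint_of_lft fun E => ?_
  exact of_localizing_mod O_D (Lft (SiteCmp.RpushD f)) (fun κ K c hc h => lft_cofan K c hc h) (lft_free f) E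

end K579.RpushAdj
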