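import Groth.Agent.DerComp.K579.LerayNat
import Groth.Agent.DerComp.K780.Away

/-!
# `Rf_*` preserves derived complete objects
-/

set_option autoImplicit false
universe w' w'' u

open CategoryTheory CategoryTheory.Limits Opposite DerivedCategory

attribute [local instance] HasDerivedCategory.standard

noncomputable section
namespace K579.RpushComp

open K578.Der K579.LerayNat K579.PartialTri K780.ShiftAlg K780.Away

section

variable {C : Type u} [SmallCategory C] {J : GrothendieckTopology C} (O : Sheaf J CommRingCat.{u})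

/-- Multiplication by a section on the free module, in the derived category. -/
abbrev mD (U : C) (g : O.obj.obj (op U)) : SiteCmp.inD O (ModSite.freeOn O U) ⟶ SiteCmp.inD O (ModSite.freeOn O U) :=
  (singleFunctor (ModSite.Mod O) 0).map (K779.Sec.mul O U g)

/-- Elementwise criterion for derived completeness. -/
theorem isDerComp_iff (I : DerComp.IdealSh O) (K : DerivedCategory (ModSite.Mod O)) :
    DerComp.IsDerComp O I K ↔ ∀ (U : C) (g : O.obj.obj (op U)), g ∈ I.ideal U → ∀ n : ℤ,
      Cmpl (pre (mD O U g) (K⟦n⟧)) :=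
  forall_congr' fun U => forall_congr' fun g => forall_congr' fun _ =>
    subsingleton_iff_cmpl O U (DerComp.GSec.ofSect O U g) (ModSite.unit (O.over U)) K

end

variable {C : Type u} [SmallCategory C] {J : GrothendieckTopology C} {O_C : Sheaf J CommRingCat.{u}}
    {D : Type u} [SmallCategory D] {K : GrothendieckTopology D} {O_D : Sheaf K CommRingCat.{u}}
    (f : ModSite.RMor O_C O_D) [SiteCmp.HasRpushD f]

/-- `Hom(j_! O_V, Rf_* M) = Hom(j_! O_{fn V}, M)` as groups. -/
def homE (V : D) (M : DerivedCategory (ModSite.Mod O_C)) :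
    (SiteCmp.inD O_C (ModSite.freeOn O_C (f.fn.obj V)) ⟶ M) ≃+
      (SiteCmp.inD O_D (ModSite.freeOn O_D V) ⟶ (SiteCmp.RpushD f).obj M) :=
  letI := K578.Der.rpushCommShift f
  haveI := K578.Der.rpush_isTriangulated f
  { Equiv.ofBijective _ (univ_canF f V M) with
    map_add' := fun x y => by
      change canF f V ≫ (SiteCmp.RpushD f).map (x + y) = canF f V ≫ (SiteCmp.RpushD f).map x +
        canF f V ≫ (SiteCmp.RpushD f).map y
      rw [Functor.map_add, Preadditive.comp_add] }

theorem homE_mul (V : D) (g : O_D.obj.obj (op V)) (M : DerivedCategory (ModSite.Mod O_C))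
    (x : SiteCmp.inD O_C (ModSite.freeOn O_C (f.fn.obj V)) ⟶ M) :
    homE f V M (mD O_C (f.fn.obj V) (shp f V g) ≫ x) = mD O_D V g ≫ homE f V M x := by
  change canF f V ≫ (SiteCmp.RpushD f).map (mD O_C (f.fn.obj V) (shp f V g) ≫ x) = mD O_D V g ≫ canF f V ≫
    (SiteCmp.RpushD f).map x
  rw [Functor.map_comp, ← Category.assoc, ← Category.assoc, mul_canF]

theorem cmpl_rpush_iff (V : D) (g : O_D.obj.obj (op V)) (M : DerivedCategory (ModSite.Mod O_C)) :
    Cmpl (pre (mD O_D V g) ((SiteCmp.RpushD f).obj M)) ↔ Cmpl (pre (mD O_C (f.fn.obj V) (shp f V g)) M) := by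
  constructor
  · intro h
    refine h.of_equiv (homE f V M).symm fun x => ?_
    apply (homE f V M).injective
    change homE f V M ((homE f V M).symm (mD O_D V g ≫ x)) =
      homE f V M (mD O_C (f.fn.obj V) (shp f V g) ≫ (homE f V M).symm x)
    rw [homE_mul, AddEquiv.apply_symm_apply, AddEquiv.apply_symm_apply]
  · intro h
    exact h.of_equiv (homE f V M) fun x => homE_mul f V g M x

theorem cmpl_of_iso {T : Type*} [Category* T] [Preadditive T] {P : T} (φ : P ⟶ P) {L L' : T} (e : L ≅ L')
    (h : Cmpl (pre φ L)) : Cmpl (pre φ L') := by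
  let E : (P ⟶ L) ≃+ (P ⟶ L') :=
    { toFun := fun x => x ≫ e.hom
      invFun := fun x => x ≫ e.inv
      left_inv := fun x => by simp
      right_inv := fun x => by simp
      map_add' := fun x y => Preadditive.add_comp _ _ _ _ _ _ }
  exact h.of_equiv E fun x => Category.assoc _ _ _

/-- `Rf_* M` is derived complete if `M` is. -/
theorem isDerComp_rpush (I : DerComp.IdealSh O_D) (I' : DerComp.IdealSh O_C) (hf : DerComp.RMapsIdealInto f I I')
    (M : DerivedCategory (ModSite.Mod O_C)) (hM : DerComp.IsDerComp O_C I' M) :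
    DerComp.IsDerComp O_D I ((SiteCmp.RpushD f).obj M) := by
  letI := K578.Der.rpushCommShift f
  rw [isDerComp_iff] at hM ⊢
  intro V g hg n
  refine cmpl_of_iso (mD O_D V g) (((SiteCmp.RpushD f).commShiftIso n).app M) ?_
  change Cmpl (pre (mD O_D V g) ((SiteCmp.RpushD f).obj (M⟦n⟧)))
  rw [cmpl_rpush_iff]
  exact hM _ _ (hf V g hg) n

end K579.RpushComp
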