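import Groth.Agent.DerComp.K579.IdealDesc
import Groth.Agent.DerComp.K579.OverPush
import Groth.Agent.DerComp.K779.Local

/-!
# `Rf_*` preserves the left orthogonal of the derived complete objects

`tors_rpush`: for `f : (C, O_C) → (D, O_D)`, `I ⊂ O_D` of finite type and `I' ⊂ O_C` its extension, `Rf_*` sends
`Tors O_C I'` into `Tors O_D I`.
-/

set_option autoImplicit false

universe v₁ v₂ u₁ u₂ u

open CategoryTheory CategoryTheory.Limits Opposite Pretriangulated

attribute [local instance] HasDerivedCategory.standard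

namespace K579.RpushTors

open K579.OverMor K579.IdealDesc K579.OverPush K578.Der K780.Res K780.Away K780.Tele K779.Tri K779.Compl K579.LOLocal
  K579.ResLO

variable {C D : Type u} [SmallCategory C] [SmallCategory D] {J : GrothendieckTopology C} {K : GrothendieckTopology D}
  {O_C : Sheaf J CommRingCat.{u}} {O_D : Sheaf K CommRingCat.{u}} (f : ModSite.RMor O_C O_D)
  {I : DerComp.IdealSh O_D} {I' : DerComp.IdealSh O_C}

lemma rel_ofSect {V : D} (a : O_D.obj.obj (op V)) :
    Rel (overMor f V) (DerComp.GSec.ofSect O_D V a) (DerComp.GSec.ofSect O_C (f.fn.obj V) (shp f V a)) := by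
  intro W
  exact (rs_shp f W.hom a).symm

/-- An object of `D(O_C|_{uV})` complete for the images of generators of `I|_V` is complete for `I'|_{uV}`. -/
theorem isDerComp_over (hI' : DerComp.RIsIdealExt f I I') {V : D} {r : ℕ} {a : Fin r → O_D.obj.obj (op V)}
    (ha : (I.over V).IsGenBy (fun i => DerComp.GSec.ofSect O_D V (a i)))
    {Z : DerivedCategory (ModSite.Mod (O_C.over (f.fn.obj V)))}
    (hZ : ∀ i, IsCompl (DerComp.GSec.ofSect O_C (f.fn.obj V) (shp f V (a i))) Z) :
    DerComp.IsDerComp (O_C.over (f.fn.obj V)) (I'.over (f.fn.obj V)) Z := by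
  rw [K780.GenBy.isDerComp_iff_le]
  refine over_le f hI' _ (ha.2 _ fun i W => ?_)
  have h1 := (K780.GenBy.contains_iff (fun i => DerComp.GSec.ofSect O_C (f.fn.obj V) (shp f V (a i))) Z).2 hZ i
    ((Over.post f.fn).obj W)
  have h2 := rel_ofSect f (a i) W
  change (show (O_C.over (f.fn.obj V)).obj.obj (op ((overMor f V).fn.obj W)) from
    ((overMor f V).sharp.hom.app (op W)).hom ((DerComp.GSec.ofSect O_D V (a i)).1 W)) ∈
    (idealSh (O_C.over (f.fn.obj V)) Z).ideal ((Over.post f.fn).obj W)
  rw [h2]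
  exact h1

lemma cpl_iff {O : Sheaf J CommRingCat.{u}} (s : DerComp.GSec O) (Z : DerivedCategory (ModSite.Mod O)) :
    Cpl s Z ↔ IsCompl s Z := Iff.rfl

lemma setOf_mem_ofFn {α : Type*} {r : ℕ} (b : Fin r → α) : {s | s ∈ List.ofFn b} = Set.range b := by
  ext s
  simp [List.mem_ofFn]

/-- The restriction to `uV` of a torsion object is finitely built from divisible objects. -/
theorem dg_res (hI' : DerComp.RIsIdealExt f I I') {V : D} {r : ℕ} {a : Fin r → O_D.obj.obj (op V)}
    (ha : (I.over V).IsGenBy (fun i => DerComp.GSec.ofSect O_D V (a i)))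
    {T : DerivedCategory (ModSite.Mod O_C)} (hT : Tors O_C I' T) :
    DG (Set.range fun i => DerComp.GSec.ofSect O_C (f.fn.obj V) (shp f V (a i))) ((resD O_C (f.fn.obj V)).obj T) := by
  have hp : ∀ Z : DerivedCategory (ModSite.Mod (O_C.over (f.fn.obj V))), HasProduct fun _ : ℕ => Z := fun Z =>
    K780.Glob.hasProduct Z
  have key := dg_of_orth (List.ofFn fun i => DerComp.GSec.ofSect O_C (f.fn.obj V) (shp f V (a i)))
    ((resD O_C (f.fn.obj V)).obj T) (fun Z hZ => by
      have h1 : DerComp.IsDerComp (O_C.over (f.fn.obj V)) (I'.over (f.fn.obj V)) Z :=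
        isDerComp_over f hI' ha fun i => hZ _ (List.mem_ofFn.2 ⟨i, rfl⟩)
      have h2 := tors_res (f.fn.obj V) I' hT Z h1 0
      refine ⟨fun x y => ?_⟩
      rw [← cancel_mono ((shiftFunctorZero _ ℤ).inv.app Z)]
      exact h2.elim _ _)
  rwa [setOf_mem_ofFn] at key

/-- An object finitely built from divisible objects is torsion. -/
theorem tors_of_dg {O : Sheaf J CommRingCat.{u}} {I : DerComp.IdealSh O} {r : ℕ} {a : Fin r → DerComp.GSec O}
    (ha : I.IsGenBy a) {T : DerivedCategory (ModSite.Mod O)} (hT : DG (Set.range a) T) : Tors O I T := by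
  intro Z hZ n
  refine hT.subsingleton ?_ n
  rintro _ ⟨i, rfl⟩
  exact (K780.GenBy.isDerComp_iff_of_isGenBy ha Z).1 hZ i

/-- **`Rf_*` preserves torsion objects.** -/
theorem tors_rpush [SiteCmp.HasRpushD f] (hI : I.IsFiniteType) (hI' : DerComp.RIsIdealExt f I I')
    {T : DerivedCategory (ModSite.Mod O_C)} (hT : Tors O_C I' T) : Tors O_D I ((SiteCmp.RpushD f).obj T) := by
  refine tors_of_covering I (fun V => ∃ (r : ℕ) (a : Fin r → O_D.obj.obj (op V)),
    (I.over V).IsGenBy fun i => DerComp.GSec.ofSect O_D V (a i)) hI _ ?_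
  rintro V ⟨r, a, ha⟩
  have := hasRpushD (overMor f V)
  obtain ⟨e⟩ := nonempty_rpush_restr f V T
  have h1 := dg_rpush (f := overMor f V) (fun i => rel_ofSect f (a i)) (dg_res f hI' ha hT)
  exact tors_of_dg ha (h1.of_iso e.symm)

end K579.RpushTors
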